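import Cfsg.Agent.H823.O8S.Defs
import Cfsg.Agent.H118.BS.Quad

/-!
# S3938-OPLUS8: basic facts about `x`, `t` (helper823)
-/

set_option autoImplicit false
set_option linter.unusedSectionVars false

namespace Cfsg.Agent.H823.O8S

open Module QuadraticMap Cfsg Cfsg.Geo Cfsg.Agent.LieClassical.OrthCore Cfsg.Agent.H955 Cfsg.Agent.H954.TSing
open Cfsg.Agent.LieClassical.OmegaReindex
open Cfsg.Agent.H951 (fx cm Inv Irr)
open Cfsg.Agent.H884.El
open Cfsg.Agent.H708.O8 (I8 T8)
open Cfsg.Agent.H436 (Prim)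
open scoped MatrixGroups Matrix

/-! ### numbers -/

theorem prim_pp {q e r : ℕ} (hq : 1 ≤ q) (h : Prim q e r) : PP q e r := by
  refine ⟨h.prime, ?_⟩
  apply Nat.dvd_antisymm
  · rw [← Cfsg.Agent.Lib.Zsigmondy.dvd_pow_sub_one_iff hq]
    exact h.dvd dvd_rfl
  · rw [← h.dvd_iff, Cfsg.Agent.Lib.Zsigmondy.dvd_pow_sub_one_iff hq]

section num

variable {p a r k : ℕ}

/-- the weak form of `RK`, which includes `q = 5` (`r = 7`, `k = 1`, `mt 5 = 3`) -/
structure RW (p a r k : ℕ) : Prop where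
  hp : p.Prime
  ha : 1 ≤ a
  four : 4 ≤ p ^ a
  prim : Prim p (6 * a) r
  dvd : r ^ k ∣ p ^ (3 * a) + 1
  hk : 1 ≤ k

theorem RK.weak (h : RK p a r k) : RW p a r k :=
  ⟨h.hp, h.ha, h.four, h.prim, h.dvd, by rcases h.cases with h1 | h1 <;> omega⟩

theorem RW.pp (h : RW p a r k) : PP (p ^ a) 6 r := by
  have h1 : PP p (a * 6) r := by
    rw [mul_comm]
    exact prim_pp h.hp.one_le h.prim
  exact h1.of_pow h.ha

theorem RK.pp (h : RK p a r k) : PP (p ^ a) 6 r := h.weak.pp

theorem RK.hk (h : RK p a r k) : 1 ≤ k := by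
  rcases h.cases with h1 | h1 <;> omega

theorem RK.seven (h : RK p a r k) : 7 ≤ r := by
  rcases h.cases with h1 | h1 <;> omega

theorem mt_dvd (q : ℕ) (hq : 1 ≤ q) : mt q ∣ q + 1 := by
  refine Nat.div_dvd_of_dvd ?_
  have h1 : Nat.gcd 2 (q - 1) ∣ 2 := Nat.gcd_dvd_left _ _
  have h2 : Nat.gcd 2 (q - 1) ∣ q - 1 := Nat.gcd_dvd_right _ _
  have h3 : q + 1 = (q - 1) + 2 := by omega
  rw [h3]
  exact dvd_add h2 h1

theorem mt_eq (q : ℕ) (hq : 1 ≤ q) : mt q * Nat.gcd 2 (q - 1) = q + 1 := by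
  refine Nat.div_mul_cancel ?_
  have h1 : Nat.gcd 2 (q - 1) ∣ 2 := Nat.gcd_dvd_left _ _
  have h2 : Nat.gcd 2 (q - 1) ∣ q - 1 := Nat.gcd_dvd_right _ _
  have h3 : q + 1 = (q - 1) + 2 := by omega
  rw [h3]
  exact dvd_add h2 h1

theorem RW.mt_three (h : RW p a r k) : 3 ≤ mt (p ^ a) := by
  have h1 := mt_eq (p ^ a) (by have := h.four; omega)
  have h3 := h.four
  have h4 : Nat.gcd 2 (p ^ a - 1) ∣ 2 := Nat.gcd_dvd_left _ _
  have h6 : Nat.gcd 2 (p ^ a - 1) = 1 ∨ Nat.gcd 2 (p ^ a - 1) = 2 := (Nat.dvd_prime Nat.prime_two).1 h4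
  rcases h6 with h6 | h6
  · rw [h6] at h1; omega
  · rw [h6] at h1; omega

theorem RK.mt_four (h : RK p a r k) : 4 ≤ mt (p ^ a) := by
  have h1 := mt_eq (p ^ a) (by have := h.four; omega)
  have h2 : Nat.gcd 2 (p ^ a - 1) ≤ 2 := Nat.le_of_dvd (by norm_num) (Nat.gcd_dvd_left _ _)
  have h3 := h.four
  have h5 := h.five
  have h4 : Nat.gcd 2 (p ^ a - 1) ∣ 2 := Nat.gcd_dvd_left _ _
  have h6 : Nat.gcd 2 (p ^ a - 1) = 1 ∨ Nat.gcd 2 (p ^ a - 1) = 2 := (Nat.dvd_prime Nat.prime_two).1 h4
  rcases h6 with h6 | h6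
  · rw [h6] at h1; omega
  · rw [h6] at h1
    have h7 : p ^ a ≠ 6 := by
      intro h0
      have h8 : p ∣ 6 := by rw [← h0]; exact dvd_pow_self p (by have := h.ha; omega)
      have h9 : (2 : ℕ) ∣ p ^ a := by rw [h0]; norm_num
      have h10 : (3 : ℕ) ∣ p ^ a := by rw [h0]; norm_num
      have h11 := (Nat.prime_dvd_prime_iff_eq Nat.prime_two h.hp).1 (Nat.prime_two.dvd_of_dvd_pow h9)
      have h12 := (Nat.prime_dvd_prime_iff_eq Nat.prime_three h.hp).1 (Nat.prime_three.dvd_of_dvd_pow h10)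
      omega
    omega

end num

/-! ### the two elements -/

variable {F : Type} [Field F] [Fintype F]

theorem finrank_I8 : finrank F (I8 → F) = 8 := by
  rw [finrank_fintype_fun_eq_card]
  simp

theorem mem_iso_of_omega {g : GL I8 F} (hg : g ∈ omegaGL (quadFormPlus 4 F)) : g ∈ isometryGroup F (quadFormPlus 4 F) := by
  obtain ⟨y, -, rfl⟩ := hg
  exact y.2

theorem iso_of_omega {g : GL I8 F} (hg : g ∈ omegaGL (quadFormPlus 4 F)) (v : I8 → F) :
    quadFormPlus 4 F (lin g v) = quadFormPlus 4 F v := by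
  have h : isometryGroup F (quadFormPlus 4 F) ≤ isometryGroup F (⇑(quadPlus 4 F)) := by rw [coe_quadPlus]
  have := lin_iso h (mem_iso_of_omega hg) v
  rwa [coe_quadPlus] at this

/-- consequences of `Wit`; `z` is a power of `x` of order `r` -/
structure Base (x t z : GL I8 F) (r : ℕ) : Prop where
  z_mem : z ∈ Subgroup.zpowers x
  z_eq : ∃ n : ℕ, z = x ^ n
  pp : PP (Nat.card F) 6 r
  z_pow : z ^ r = 1
  z_ne : z ≠ 1
  cmz : cm (lin z) = cm (lin x)
  fxz : fx (lin z) = fx (lin x)
  irr6 : Irr (lin z) (cm (lin x))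
  irr2 : Irr (lin t) (fx (lin x))
  compl : IsCompl (fx (lin x)) (cm (lin x))
  dim6 : finrank F (cm (lin x)) = 6
  dim2 : finrank F (fx (lin x)) = 2
  tW : cm (lin t) = fx (lin x)
  tV : fx (lin t) = cm (lin x)
  perp : ∀ u ∈ fx (lin x), ∀ v ∈ cm (lin x), polar (quadFormPlus 4 F) u v = 0

theorem polar_iso' {g : GL I8 F} (hg : ∀ v, quadFormPlus 4 F (lin g v) = quadFormPlus 4 F v) (u v : I8 → F) :
    polar (quadFormPlus 4 F) (lin g u) (lin g v) = polar (quadFormPlus 4 F) u v := by
  simp only [polar, ← map_add, hg]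

theorem lin_pow (g : GL I8 F) (n : ℕ) : lin (g ^ n) = lin g ^ n := by
  rw [lin, H251.GeoCard.toLin_pow]

theorem pow_one_fx {f : Module.End F (I8 → F)} {v : I8 → F} (hv : v ∈ fx f) (n : ℕ) : v ∈ fx (f ^ n) :=
  H951.mem_fx.2 (H951.pow_fx (H951.mem_fx.1 hv) n)

theorem cm_pow_le (f : Module.End F (I8 → F)) (n : ℕ) : cm (f ^ n) ≤ cm f := by
  rintro _ ⟨v, rfl⟩
  have : (f ^ n - 1 : Module.End F (I8 → F)) = (f - 1) * ∑ i ∈ Finset.range n, f ^ i := (mul_geom_sum f n).symm
  rw [this, Module.End.mul_apply]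
  exact ⟨_, rfl⟩

/-- a vector orthogonal to `[V, g]` is fixed by `g` and conversely -/
theorem polar_cm_fx {g : GL I8 F} (hg : ∀ v, quadFormPlus 4 F (lin g v) = quadFormPlus 4 F v) {u v : I8 → F}
    (hu : u ∈ fx (lin g)) (hv : v ∈ cm (lin g)) : polar (quadFormPlus 4 F) u v = 0 := by
  obtain ⟨w, rfl⟩ := H951.mem_cm.1 hv
  have h1 := polar_iso' hg u w
  rw [H951.mem_fx.1 hu] at h1
  have h2 : polar (quadFormPlus 4 F) u (lin g w - w) =
      polar (quadFormPlus 4 F) u (lin g w) - polar (quadFormPlus 4 F) u w := by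
    rw [← coe_quadPlus]
    exact polar_sub_right (quadPlus 4 F) u (lin g w) w
  rw [h2, h1, sub_self]

/-- **basic facts** -/
theorem base_w {p a r k : ℕ} (hF : Nat.card F = p ^ a) (h : RW p a r k) {x t : GL I8 F} (w : Wit x t (r ^ k)) :
    ∃ z, Base x t z r := by
  have hpp : PP (Nat.card F) 6 r := by rw [hF]; exact h.pp
  have hk := h.hk
  have hrpos : 0 < r := hpp.prime.pos
  have hr0 : (r : F) ≠ 0 := hpp.ne0 (by norm_num)
  have hxiso := iso_of_omega w.x_mem
  have htiso := iso_of_omega w.t_mem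
  have hq4 := h.four
  -- `z`
  obtain ⟨z, hz⟩ : ∃ z : GL I8 F, z = x ^ r ^ (k - 1) := ⟨_, rfl⟩
  have hzr : z ^ r = 1 := by
    rw [hz, ← pow_mul, ← pow_succ, Nat.sub_add_cancel hk, ← w.x_ord, pow_orderOf_eq_one]
  have hz1 : z ≠ 1 := by
    intro h1
    have h2 : orderOf x ∣ r ^ (k - 1) := orderOf_dvd_of_pow_eq_one (hz ▸ h1)
    rw [w.x_ord] at h2
    have h3 := Nat.le_of_dvd (pow_pos hrpos _) h2
    have h4 := Nat.pow_lt_pow_right hpp.prime.one_lt (show k - 1 < k by omega)
    omega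
  have hziso : ∀ v, quadPlus 4 F (lin z v) = quadPlus 4 F v := by
    have h1 : z ∈ omegaGL (quadFormPlus 4 F) := hz ▸ Subgroup.pow_mem _ w.x_mem _
    have h2 := iso_of_omega h1
    rwa [← coe_quadPlus] at h2
  have hI : Iso (quadPlus 4 F) (lin z) r := Iso.mk' hpp (by norm_num) (by rw [← lin_pow, hzr, lin_one]) hziso
  -- dimensions
  have hxN : lin x ^ (r ^ k) = 1 := by rw [← lin_pow, ← w.x_ord, pow_orderOf_eq_one, lin_one]
  have hN0 : ((r ^ k : ℕ) : F) ≠ 0 := by
    rw [Nat.cast_pow]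
    exact pow_ne_zero _ hr0
  have hcompl := H951.isCompl_fx_cm hN0 hxN
  have hadd := H951.finrank_fx_add_cm hN0 hxN
  rw [w.x_dim, finrank_I8] at hadd
  have hle : cm (lin z) ≤ cm (lin x) := by
    rw [hz, lin_pow]
    exact cm_pow_le _ _
  have hd6 : 6 ∣ finrank F (cm (lin z)) := hI.dvd_cm hpp
  have hne : cm (lin z) ≠ ⊥ := cm_ne_bot (lin_ne_one hz1)
  have hpos : 0 < finrank F (cm (lin z)) := by
    rw [Nat.pos_iff_ne_zero]
    intro h0
    exact hne (Submodule.finrank_eq_zero.1 h0)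
  have hz6 : finrank F (cm (lin z)) = 6 := by
    have h1 := Submodule.finrank_mono hle
    rw [w.x_dim] at h1
    have h2 := Nat.le_of_dvd hpos hd6
    omega
  have hcmz : cm (lin z) = cm (lin x) := Submodule.eq_of_le_of_finrank_eq hle (by rw [hz6, w.x_dim])
  have hfxz : fx (lin z) = fx (lin x) := by
    have h1 : fx (lin x) ≤ fx (lin z) := by
      rw [hz, lin_pow]
      exact fun v hv => pow_one_fx hv _
    have h2 := hI.finrank_add
    rw [hz6, finrank_I8] at h2
    have e1 : finrank F (fx (lin x)) = 2 := Nat.add_right_cancel (m := 6) hadd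
    have e2 : finrank F (fx (lin z)) = 2 := Nat.add_right_cancel (m := 6) h2
    exact (Submodule.eq_of_le_of_finrank_eq h1 (e1.trans e2.symm)).symm
  have hirr6 : Irr (lin z) (cm (lin x)) := by
    refine ⟨?_, ?_, ?_⟩
    · intro h0
      rw [hcmz, h0] at hne
      exact hne rfl
    · rw [← hcmz]
      exact H951.inv_cm
    · intro U hU hUi
      have h1 := hI.dvd hpp hUi
      rw [inf_eq_left.2 (hcmz ▸ hU)] at h1
      have h2 := Submodule.finrank_mono hU
      rcases Nat.eq_zero_or_pos (finrank F U) with h0 | h0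
      · exact Or.inl (Submodule.finrank_eq_zero.1 h0)
      · right
        have h3 := Nat.le_of_dvd h0 h1
        rw [w.x_dim] at h2
        exact Submodule.eq_of_le_of_finrank_eq hU (by rw [w.x_dim]; omega)
  have hperp : ∀ u ∈ fx (lin x), ∀ v ∈ cm (lin x), polar (quadFormPlus 4 F) u v = 0 := fun u hu v hv =>
    polar_cm_fx hxiso hu hv
  have htW : cm (lin t) = fx (lin x) := Submodule.eq_of_le_of_finrank_eq w.le (by rw [w.t_dim]; omega)
  -- `m` is prime to `p`
  have hmF : ((mt (Nat.card F) : ℕ) : F) ≠ 0 := by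
    intro h0
    have h1 := mt_dvd (Nat.card F) (by rw [hF]; omega)
    obtain ⟨c, hc⟩ := h1
    have h2 : ((Nat.card F + 1 : ℕ) : F) = 0 := by rw [hc, Nat.cast_mul, h0, zero_mul]
    rw [Nat.cast_add, Nat.card_eq_fintype_card, FiniteField.cast_card_eq_zero, Nat.cast_one, zero_add] at h2
    exact one_ne_zero h2
  have htm : lin t ^ (mt (Nat.card F)) = 1 := by rw [← lin_pow, ← w.t_ord, pow_orderOf_eq_one, lin_one]
  have htc := H951.isCompl_fx_cm hmF htm
  have hta := H951.finrank_fx_add_cm hmF htm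
  rw [w.t_dim, finrank_I8] at hta
  have htV : fx (lin t) = cm (lin x) := by
    -- `cm x` is orthogonal to `cm t`
    symm
    refine Submodule.eq_of_le_of_finrank_eq ?_ (by rw [w.x_dim]; omega)
    intro v hv
    rw [H951.mem_fx]
    have h1 : ∀ u, polar (quadFormPlus 4 F) u (lin t v - v) = 0 := by
      intro u
      have h2 : polar (quadFormPlus 4 F) (lin t⁻¹ u - u) v = 0 := by
        refine hperp _ ?_ v hv
        rw [← htW]
        have h3 : lin t⁻¹ u - u = lin t (-(lin t⁻¹ u)) - (-(lin t⁻¹ u)) := by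
          rw [map_neg, lin_apply_inv]
          abel
        rw [h3]
        exact H951.mem_cm.2 ⟨_, rfl⟩
      have h4 : polar (quadFormPlus 4 F) (lin t⁻¹ u) v = polar (quadFormPlus 4 F) u (lin t v) := by
        rw [← polar_iso' htiso (lin t⁻¹ u) v, lin_apply_inv]
      have h5 : polar (quadFormPlus 4 F) (lin t⁻¹ u - u) v =
          polar (quadFormPlus 4 F) (lin t⁻¹ u) v - polar (quadFormPlus 4 F) u v := by
        rw [← coe_quadPlus]
        exact polar_sub_left (quadPlus 4 F) _ _ _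
      have h6 : polar (quadFormPlus 4 F) u (lin t v - v) =
          polar (quadFormPlus 4 F) u (lin t v) - polar (quadFormPlus 4 F) u v := by
        rw [← coe_quadPlus]
        exact polar_sub_right (quadPlus 4 F) _ _ _
      rw [h6, ← h4, ← h5, h2]
    have h2 : (polarBilin (quadPlus 4 F)).Nondegenerate := quadPlus_nondegenerate
    have h3 := h2.2 (lin t v - v) (fun u => by
      rw [polarBilin_apply_apply, coe_quadPlus]
      exact h1 u)
    exact sub_eq_zero.1 h3
  have hirr2 : Irr (lin t) (fx (lin x)) := by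
    refine ⟨?_, ?_, ?_⟩
    · intro h0
      rw [h0, finrank_bot] at hadd
      omega
    · rw [← htW]
      exact H951.inv_cm
    · intro U hU hUi
      have h2 := Submodule.finrank_mono hU
      by_contra hcon
      push Not at hcon
      have h3 : finrank F U = 1 := by
        have h4 : finrank F U ≠ 0 := fun h0 => hcon.1 (Submodule.finrank_eq_zero.1 h0)
        have h5 : finrank F U ≠ 2 := fun h0 => hcon.2 (Submodule.eq_of_le_of_finrank_eq hU (by omega))
        omega
      -- eigenvalues of `t` on a line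
      have eig : ∀ U : Submodule F (I8 → F), finrank F U = 1 → Inv (lin t) U → ∀ v ∈ U, lin t (lin t v) = v := by
        intro U hU1 hUi v hv
        by_cases hv0 : v = 0
        · rw [hv0, map_zero, map_zero]
        have h4 := (finrank_eq_one_iff_of_nonzero' (⟨v, hv⟩ : U) (fun h0 => hv0 (congrArg Subtype.val h0))).1 hU1
          ⟨lin t v, hUi v hv⟩
        obtain ⟨c, hc⟩ := h4
        have hc' : lin t v = c • v := (congrArg Subtype.val hc).symm
        have hpow : ∀ n : ℕ, (lin t ^ n) v = c ^ n • v := by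
          intro n
          induction n with
          | zero => simp
          | succ n ih => rw [pow_succ', Module.End.mul_apply, ih, map_smul, hc', smul_smul, pow_succ]
        have hcm : c ^ mt (Nat.card F) = 1 := by
          have h5 := hpow (mt (Nat.card F))
          rw [htm, Module.End.one_apply] at h5
          have h6 : (c ^ mt (Nat.card F) - 1) • v = 0 := by rw [sub_smul, one_smul, ← h5, sub_self]
          exact sub_eq_zero.1 ((smul_eq_zero.1 h6).resolve_right hv0)
        have hc0 : c ≠ 0 := by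
          rintro rfl
          rw [zero_pow] at hcm
          · exact zero_ne_one hcm
          · have := h.mt_three
            rw [← hF] at this
            omega
        have hcq : c ^ (Nat.card F - 1) = 1 := by
          rw [Nat.card_eq_fintype_card]
          exact FiniteField.pow_card_sub_one_eq_one c hc0
        have hcq1 : c ^ (Nat.card F + 1) = 1 := by
          obtain ⟨d, hd⟩ := mt_dvd (Nat.card F) (by rw [hF]; omega)
          rw [hd, pow_mul, hcm, one_pow]
        have hc2 : c ^ 2 = 1 := by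
          have h5 : Nat.card F + 1 = (Nat.card F - 1) + 2 := by rw [hF]; omega
          rw [h5, pow_add, hcq, one_mul] at hcq1
          exact hcq1
        rw [hc', map_smul, hc', smul_smul, ← pow_two, hc2, one_smul]
      -- a complement
      obtain ⟨U', hU'i, -, hU'1, hU'2⟩ := H951.exists_rel_compl (H951.semisimple_of_pow hmF htm) hUi
        (show Inv (lin t) (fx (lin x)) by rw [← htW]; exact H951.inv_cm) hU
      have h4 : finrank F U' = 1 := by
        have h5 := H951.finrank_sup_of_disj hU'1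
        rw [hU'2, h3] at h5
        omega
      -- `t² = 1`
      have h5 : t ^ 2 = 1 := by
        apply lin_injective
        rw [lin_one, lin_pow]
        refine LinearMap.ext fun v => ?_
        rw [pow_two, Module.End.mul_apply, Module.End.one_apply]
        have h6 : v ∈ fx (lin x) ⊔ cm (lin x) := by rw [hcompl.sup_eq_top]; exact Submodule.mem_top
        obtain ⟨u, hu, v', hv', rfl⟩ := Submodule.mem_sup.1 h6
        rw [← hU'2] at hu
        obtain ⟨u1, hu1, u2, hu2, rfl⟩ := Submodule.mem_sup.1 hu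
        have h7 : lin t v' = v' := by
          rw [← H951.mem_fx, htV]
          exact hv'
        rw [map_add, map_add, map_add, map_add, h7, h7, eig U h3 hUi u1 hu1, eig U' h4 hU'i u2 hu2]
      have h6 := orderOf_dvd_of_pow_eq_one h5
      rw [w.t_ord] at h6
      have h7 := Nat.le_of_dvd (by norm_num) h6
      have h8 := h.mt_three
      rw [← hF] at h8
      omega
  refine ⟨z, ⟨?_, ⟨_, hz⟩, hpp, hzr, hz1, hcmz, hfxz, hirr6, hirr2, hcompl, w.x_dim, by omega, htW, htV, hperp⟩⟩
  rw [hz]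
  exact Subgroup.pow_mem _ (Subgroup.mem_zpowers x) _

theorem base {p a r k : ℕ} (hF : Nat.card F = p ^ a) (h : RK p a r k) {x t : GL I8 F} (w : Wit x t (r ^ k)) :
    ∃ z, Base x t z r := base_w hF h.weak w

end Cfsg.Agent.H823.O8S
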