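import Cfsg.Agent.H708.O8.Defs
import Cfsg.Agent.H424.Spr.Two

/-!
# S3938-OPLUS8: 3/2-generation of `PΩ⁺₈(q)`, `q ≥ 4`: definitions (helper823)

`V = F ^ (Fin 4 ⊕ Fin 4)` with the form `quadFormPlus 4 F`; `r` a primitive prime divisor of `p ^ (6 a) - 1`, `q = p ^ a`;
`V = V₆ ⊥ W` with `V₆ = [V, x]`, `W = C_V(x)`, `x` of order `r ^ k`, `t` of order `(q + 1) / (2, q - 1)`, trivial on `V₆`.
-/

set_option autoImplicit false

namespace Cfsg.Agent.H823.O8S

open Module QuadraticMap Cfsg Cfsg.Geo Cfsg.Agent.LieClassical.OrthCore Cfsg.Agent.H955 Cfsg.Agent.H954.TSing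
open Cfsg.Agent.LieClassical.OmegaReindex
open Cfsg.Agent.H951 (fx cm Inv)
open Cfsg.Agent.H884.El
open Cfsg.Agent.H708.O8 (I8 T8)
open Cfsg.Agent.H436 (Prim)
open scoped MatrixGroups Matrix

/-- the numbers: `q = p ^ a ≥ 4`, `q ≠ 5`, `r` is a primitive prime divisor of `p ^ (6 a) - 1` -/
structure RK (p a r k : ℕ) : Prop where
  hp : p.Prime
  ha : 1 ≤ a
  four : 4 ≤ p ^ a
  five : p ^ a ≠ 5
  prim : Prim p (6 * a) r
  dvd : r ^ k ∣ p ^ (3 * a) + 1
  cases : (13 ≤ r ∧ k = 1) ∨ (r = 7 ∧ k = 2)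

/-- the order of `t` -/
def mt (q : ℕ) : ℕ := (q + 1) / Nat.gcd 2 (q - 1)

/-- the two elements; `s = x t` -/
structure Wit {F : Type} [Field F] [Fintype F] (x t : GL I8 F) (N : ℕ) : Prop where
  x_mem : x ∈ omegaGL (quadFormPlus 4 F)
  t_mem : t ∈ omegaGL (quadFormPlus 4 F)
  x_ord : orderOf x = N
  t_ord : orderOf t = mt (Nat.card F)
  comm : x * t = t * x
  x_dim : finrank F (cm (lin x)) = 6
  t_dim : finrank F (cm (lin t)) = 2
  le : cm (lin t) ≤ fx (lin x)

/-- `F[J]` is a field of order `q²`, and its elements are similitudes -/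
structure Fld {F : Type} [Field F] (J : Module.End F (I8 → F)) (c d : F) : Prop where
  sq : J * J = c • J - d • (1 : Module.End F (I8 → F))
  irr : ∀ z : F, z * z - c * z + d ≠ 0
  sim : ∀ v, quadFormPlus 4 F (J v) = d * quadFormPlus 4 F v

/-- the two fields `F[J]`, `F[J']` centralised by `x` and `t`; they agree on `V₆` and are conjugate on `W` -/
structure Two {F : Type} [Field F] [Fintype F] (x t : GL I8 F) (J J' : Module.End F (I8 → F)) (c d : F) : Prop where
  fJ : Fld J c d
  fJ' : Fld J' c d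
  cx : J * lin x = lin x * J
  ct : J * lin t = lin t * J
  cx' : J' * lin x = lin x * J'
  ct' : J' * lin t = lin t * J'
  agree : ∀ v ∈ cm (lin x), J' v = J v
  conj : ∀ v ∈ fx (lin x), J' v = c • v - J v

section gen

variable {F : Type} [Field F]

theorem lin_mul_apply (g h : GL I8 F) (v : I8 → F) : lin (g * h) v = lin g (lin h v) := by
  rw [lin, lin, lin, Units.val_mul, Matrix.toLin'_mul, LinearMap.comp_apply]

theorem lin_inv_apply (g : GL I8 F) (v : I8 → F) : lin g⁻¹ (lin g v) = v := by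
  rw [← lin_mul_apply, inv_mul_cancel, lin_one, Module.End.one_apply]

theorem lin_apply_inv (g : GL I8 F) (v : I8 → F) : lin g (lin g⁻¹ v) = v := by
  rw [← lin_mul_apply, mul_inv_cancel, lin_one, Module.End.one_apply]

/-- the normaliser of `F[J]` in `GL` -/
def NJ (J : Module.End F (I8 → F)) (c : F) : Subgroup (GL I8 F) where
  carrier := {g | (∀ v, lin g (J v) = J (lin g v)) ∨ (∀ v, lin g (J v) = c • lin g v - J (lin g v))}
  one_mem' := Or.inl fun v => by rw [lin_one, Module.End.one_apply, Module.End.one_apply]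
  mul_mem' := by
    rintro g h (hg | hg) (hh | hh)
    · exact Or.inl fun v => by rw [lin_mul_apply, hh, hg, lin_mul_apply]
    · exact Or.inr fun v => by rw [lin_mul_apply, hh, map_sub, hg, map_smul, lin_mul_apply]
    · exact Or.inr fun v => by rw [lin_mul_apply, hh, hg, lin_mul_apply]
    · exact Or.inl fun v => by
        rw [lin_mul_apply, hh, map_sub, hg, map_smul, lin_mul_apply]
        abel
  inv_mem' := by
    rintro g (hg | hg)
    · refine Or.inl fun v => ?_
      have h := hg (lin g⁻¹ v)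
      rw [lin_apply_inv] at h
      rw [← h, lin_inv_apply]
    · refine Or.inr fun v => ?_
      have h := hg (lin g⁻¹ v)
      rw [lin_apply_inv] at h
      have h2 : J v = c • v - lin g (J (lin g⁻¹ v)) := by
        rw [h]
        abel
      rw [h2, map_sub, map_smul, lin_inv_apply]

theorem mem_NJ {J : Module.End F (I8 → F)} {c : F} {g : GL I8 F} : g ∈ NJ J c ↔
    (∀ v, lin g (J v) = J (lin g v)) ∨ (∀ v, lin g (J v) = c • lin g v - J (lin g v)) := Iff.rfl

/-- the stabiliser of a subspace -/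
def SW (W : Submodule F (I8 → F)) : Subgroup (GL I8 F) where
  carrier := {g | W.map (lin g) = W}
  one_mem' := by rw [Set.mem_setOf_eq, lin_one]; exact Submodule.map_id W
  mul_mem' := by
    intro g h hg hh
    rw [Set.mem_setOf_eq] at hg hh ⊢
    have e : lin (g * h) = (lin g).comp (lin h) := LinearMap.ext fun v => lin_mul_apply g h v
    rw [e, Submodule.map_comp, hh, hg]
  inv_mem' := by
    intro g hg
    rw [Set.mem_setOf_eq] at hg ⊢
    have e : (lin g⁻¹).comp (lin g) = LinearMap.id := LinearMap.ext fun v => lin_inv_apply g v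
    conv_lhs => rw [← hg]
    rw [← Submodule.map_comp, e, Submodule.map_id]

theorem mem_SW {W : Submodule F (I8 → F)} {g : GL I8 F} : g ∈ SW W ↔ W.map (lin g) = W := Iff.rfl

variable [Fintype F]

/-- the image in `PΩ⁺₈(q)` of a subgroup of `GL` -/
def tp (H : Subgroup (GL I8 F)) : Subgroup (T8 F) :=
  (H.comap ((isometryGroup F (quadFormPlus 4 F)).subtype.comp (Omega F (quadFormPlus 4 F)).subtype)).map
    (QuotientGroup.mk' (Subgroup.center (Omega F (quadFormPlus 4 F))))

theorem le_tp {K : Subgroup (T8 F)} {H : Subgroup (GL I8 F)} (h : pre (quadFormPlus 4 F) K ≤ H) : K ≤ tp H := by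
  intro y hy
  obtain ⟨g, rfl⟩ := QuotientGroup.mk'_surjective _ y
  exact ⟨g, h (mem_pre.2 hy), rfl⟩

theorem mk_mem_tp {H : Subgroup (GL I8 F)} {g : Omega F (quadFormPlus 4 F)}
    (h : ((g : isometryGroup F (quadFormPlus 4 F)) : GL I8 F) ∈ H) :
    QuotientGroup.mk' (Subgroup.center (Omega F (quadFormPlus 4 F))) g ∈ tp H := ⟨g, h, rfl⟩

/-- the three overgroups of `s = x t` -/
def U₁ (x : GL I8 F) : Subgroup (T8 F) := tp (SW (fx (lin x)))

def U₂ (J : Module.End F (I8 → F)) (c : F) : Subgroup (T8 F) := tp (NJ J c)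

end gen

end Cfsg.Agent.H823.O8S
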