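import Cfsg.Agent.H823.O8S.Row
import Cfsg.Agent.H832.PoSeven.Row

/-!
# S3938-OPLUS8: **`Spr (PΩ⁺₈(q))`, `q ≥ 4`, `q ≠ 5`** (helper823)
-/

set_option autoImplicit false

namespace Cfsg.Agent.H823.O8S

open Cfsg Cfsg.Agent.H424.Spr
open Cfsg.Agent.H708.O8 (T8)

theorem po7 : Po7 := by
  intro p a r k h R _ _ S _ hC x t hx ht hxt K _ _ hp hK e
  exact H832.PoSeven.po7_conj S hC hx ht hxt hp hK h e

theorem spr_row (hKn : ∀ (X : Type) [Group X] [Finite X] [IsSimpleGroup X], Cfsg.IsKnownSimple' X)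
    {F : Type} [Field F] [Fintype F] (h4 : 4 ≤ Nat.card F) (h5 : Nat.card F ≠ 5) :
    Spr (POmega F (quadFormPlus 4 F)) := spr_row_po7 hKn po7 h4 h5

end Cfsg.Agent.H823.O8S
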