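import Cfsg.Agent.H823.O8S.Kill
import Cfsg.Agent.H264.FKS.ResCore
import Cfsg.Agent.H659.O8.Named
import Cfsg.Agent.H915.LD
import Cfsg.Agent.OddHalf.Known

/-!
# S3938-OPLUS8: the residual overgroups of `x`, `t`, from the four families (helper823)
-/

set_option autoImplicit false
set_option linter.unusedSectionVars false

namespace Cfsg.Agent.H823.O8S

open Module QuadraticMap Cfsg Cfsg.Geo Cfsg.Agent.LieClassical.OrthCore Cfsg.Agent.H955 Cfsg.Agent.H954.TSing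
open Cfsg.Agent.LieClassical.OmegaReindex Cfsg.Agent.OrdDiv Cfsg.Agent.H915.LD Cfsg.Agent.H902 Cfsg.Agent.H902.Names
open Cfsg.Agent.H436 Cfsg.Agent.H264.GN Cfsg.Agent.H915.GN Cfsg.Agent.H264.FKS
open Cfsg.Agent.H951 (fx cm Inv Irr)
open Cfsg.Agent.H884.El
open Cfsg.Agent.H708.O8 (I8 T8)
open scoped MatrixGroups Matrix

variable {F : Type} [Field F] [Fintype F] {p a r k : ℕ} {x t z : GL I8 F}

/-- the quotient map -/
abbrev mk8 (F : Type) [Field F] [Fintype F] : Omega F (quadFormPlus 4 F) →* T8 F :=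
  QuotientGroup.mk' (Subgroup.center (Omega F (quadFormPlus 4 F)))

/-- the matrix of an element of `Ω` -/
abbrev gl8 (F : Type) [Field F] [Fintype F] : Omega F (quadFormPlus 4 F) →* GL I8 F :=
  (isometryGroup F (quadFormPlus 4 F)).subtype.comp (Omega F (quadFormPlus 4 F)).subtype

theorem mk8_eq_one {y : Omega F (quadFormPlus 4 F)} (h : mk8 F y = 1) : ∃ e : F, ∀ v, lin (gl8 F y) v = e • v := by
  have h1 : ∀ y : Omega F (⇑(quadPlus 4 F)), QuotientGroup.mk' (Subgroup.center (Omega F (⇑(quadPlus 4 F)))) y = 1 →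
      ((isometryGroup F (⇑(quadPlus 4 F))).subtype.comp (Omega F (⇑(quadPlus 4 F))).subtype) y ∈ scalars I8 F :=
    fun y h => (hker_omega (quadPlus 4 F) quadPlus_nondegenerate (by rw [card_I8]; norm_num)
      (quadPlus_isotropic (by norm_num)) y).1 h
  rw [coe_quadPlus] at h1
  obtain ⟨e, he⟩ := (mem_scalars_iff _).1 (h1 y h)
  refine ⟨(e : F), fun v => ?_⟩
  have h2 : ((gl8 F y : GL I8 F) : Matrix I8 I8 F) = (e : F) • 1 := he
  rw [H884.El.lin, h2, map_smul, Matrix.toLin'_one]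
  rfl

theorem mk8_eq {y y' : Omega F (quadFormPlus 4 F)} (h : mk8 F y = mk8 F y') :
    ∃ e : F, ∀ v, lin (gl8 F y) v = e • lin (gl8 F y') v := by
  obtain ⟨e, he⟩ := mk8_eq_one (y := y * y'⁻¹) (by rw [map_mul, map_inv, h, mul_inv_cancel])
  refine ⟨e, fun v => ?_⟩
  have h1 := he (lin (gl8 F y') v)
  rwa [map_mul, map_inv, lin_mul_apply, lin_inv_apply] at h1

theorem exists_lift {K : Subgroup (T8 F)} {g : GL I8 F} (hg : g ∈ pre (quadFormPlus 4 F) K) :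
    ∃ y : Omega F (quadFormPlus 4 F), gl8 F y = g ∧ mk8 F y ∈ K := by
  obtain ⟨_, ⟨y, hy, rfl⟩, hyx⟩ := hg
  exact ⟨y, hyx, hy⟩

/-- the order of the image of an element with a fixed vector -/
theorem order_mk {y : Omega F (quadFormPlus 4 F)} (h : fx (lin (gl8 F y)) ≠ ⊥) : orderOf (mk8 F y) = orderOf (gl8 F y) := by
  apply Nat.dvd_antisymm
  · apply orderOf_dvd_of_pow_eq_one
    have h1 : y ^ orderOf (gl8 F y) = 1 := by
      apply (isometryGroup F (quadFormPlus 4 F)).subtype_injective.comp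
        (Omega F (quadFormPlus 4 F)).subtype_injective
      change gl8 F (y ^ _) = gl8 F 1
      rw [map_pow, pow_orderOf_eq_one, map_one]
    rw [← map_pow, h1, map_one]
  · apply orderOf_dvd_of_pow_eq_one
    have h1 : mk8 F (y ^ orderOf (mk8 F y)) = 1 := by rw [map_pow, pow_orderOf_eq_one]
    obtain ⟨e, he⟩ := mk8_eq_one h1
    obtain ⟨v, hv, hv0⟩ := (Submodule.ne_bot_iff _).1 h
    have h2 : v ∈ fx (lin (gl8 F y) ^ orderOf (mk8 F y)) := pow_one_fx hv _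
    have h3 := he v
    rw [map_pow, lin_pow, H951.mem_fx.1 h2] at h3
    have h4 : (1 - e) • v = 0 := by rw [sub_smul, one_smul, ← h3, sub_self]
    have h5 : e = 1 := (sub_eq_zero.1 ((smul_eq_zero.1 h4).resolve_right hv0)).symm
    apply H884.El.lin_injective
    rw [lin_one, ← map_pow]
    refine LinearMap.ext fun u => ?_
    rw [he u, h5, one_smul]
    rfl

section

/-- **the residual class**, from the pieces (O3) .. (O8) -/
theorem residual (hF : Nat.card F = p ^ a) (h : RK p a r k) (w : Wit x t (r ^ k))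
    (own : ∀ {R : Subgroup (T8 F)} (_ : R ≠ ⊤) (S : Subgroup R) [S.Normal] (_ : IsSimpleGroup S)
      (_ : ¬ IsMulCommutative S) (_ : Subgroup.centralizer (S : Set R) = ⊥) {P : Subgroup (GL I8 F)}
      (_ : IsResidualCore (pre (quadFormPlus 4 F) R) P) (_ : S ≃* Soc P) (_ : IsLieTypeChar p (Soc P))
      (_ : r ∣ Nat.card R),
      (∃ (K : Type) (_ : Field K) (_ : Fintype K), Fintype.card K = p ^ (3 * a) ∧
        Nonempty (S ≃* Matrix.ProjectiveSpecialLinearGroup (Fin 2) K)) ∨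
      IsNamed (.psu 3 (p ^ a)) S ∨
      (∃ (K : Type) (_ : Field K) (_ : Fintype K), Fintype.card K = p ^ a ∧ Nonempty (S ≃* PSp 3 K)) ∨
      (p ≠ 2 ∧ ∃ (K : Type) (_ : Field K) (_ : Fintype K), Fintype.card K = p ^ a ∧
        Nonempty (S ≃* POmega K (quadFormOdd 3 K))))
    (cross : ∀ {R : Subgroup (T8 F)} (S : Subgroup R) [S.Normal] (_ : IsSimpleGroup S)
      (_ : ¬ IsMulCommutative S) (_ : Subgroup.centralizer (S : Set R) = ⊥) {P : Subgroup (GL I8 F)}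
      (_ : IsResidualCore (pre (quadFormPlus 4 F) R) P) (_ : S ≃* Soc P) (_ : ¬ IsLieTypeChar p (Soc P))
      {x t : R} (_ : orderOf x = r ^ k) (_ : orderOf t = mt (p ^ a)) (_ : x * t = t * x), False)
    (psl2 : ∀ {R : Type} [Group R] [Finite R] (S : Subgroup R) [S.Normal] (_ : Subgroup.centralizer (S : Set R) = ⊥)
      {x t : R} (_ : orderOf x = r ^ k) (_ : orderOf t = mt (p ^ a)) (_ : x * t = t * x) {K : Type} [Field K] [Fintype K]
      (_ : Fintype.card K = p ^ (3 * a)) (_ : S ≃* Matrix.ProjectiveSpecialLinearGroup (Fin 2) K),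
      ∃ t₁ t₂ : R, IsConj (t ^ 2) t₁ ∧ IsConj (t ^ 2) t₂ ∧ t₁ * t₂ = x)
    (sp6 : ∀ {R : Type} [Group R] [Finite R] (S : Subgroup R) [S.Normal] (_ : Subgroup.centralizer (S : Set R) = ⊥)
      {x t : R} (_ : orderOf x = r ^ k) (_ : orderOf t = mt (p ^ a)) (_ : x * t = t * x) {K : Type} [Field K] [Fintype K]
      (_ : Fintype.card K = p ^ a) (_ : S ≃* PSp 3 K),
      ∃ t₁ t₂ t₃ : R, IsConj t t₁ ∧ IsConj t t₂ ∧ IsConj t t₃ ∧ t * t₁ = t₁ * t ∧ t * t₂ = t₂ * t ∧ t * t₃ = t₃ * t ∧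
        t₁ ∉ Subgroup.zpowers t ∧ t₂ ∉ Subgroup.zpowers t ∧ t₃ ∉ Subgroup.zpowers t ∧ t₁ * t₂ * t₃ = t)
    (po7 : ∀ {R : Type} [Group R] [Finite R] (S : Subgroup R) [S.Normal] (_ : Subgroup.centralizer (S : Set R) = ⊥)
      {x t : R} (_ : orderOf x = r ^ k) (_ : orderOf t = mt (p ^ a)) (_ : x * t = t * x) {K : Type} [Field K] [Fintype K]
      (_ : p ≠ 2) (_ : Fintype.card K = p ^ a) (_ : S ≃* POmega K (quadFormOdd 3 K)),
      ∃ t₁ t₂ t₃ : R, IsConj t t₁ ∧ IsConj t t₂ ∧ IsConj t t₃ ∧ t * t₁ = t₁ * t ∧ t * t₂ = t₂ * t ∧ t * t₃ = t₃ * t ∧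
        t₁ ∉ Subgroup.zpowers t ∧ t₂ ∉ Subgroup.zpowers t ∧ t₃ ∉ Subgroup.zpowers t ∧ t₁ * t₂ * t₃ = t)
    (psu3 : ∀ {R : Type} [Group R] [Finite R] (S : Subgroup R) [S.Normal] (_ : Subgroup.centralizer (S : Set R) = ⊥)
      {x t : R} (_ : orderOf x = r ^ k) (_ : orderOf t = mt (p ^ a)) (_ : x * t = t * x)
      (_ : IsNamed (.psu 3 (p ^ a)) S), False)
    {K : Subgroup (T8 F)} (hx : x ∈ pre (quadFormPlus 4 F) K) (ht : t ∈ pre (quadFormPlus 4 F) K) (hK : K ≠ ⊤)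
    (hres : InOrthogonalResidualClass (pre (quadFormPlus 4 F) K)) : False := by
  obtain ⟨z, b⟩ := base hF h w
  obtain ⟨P, hP, -⟩ := hres
  obtain ⟨S, hSn, hS, hna, hC, ⟨e⟩⟩ := exists_res_plus (n := 4) le_rfl hP
  obtain ⟨yx, hyx, hyxK⟩ := exists_lift hx
  obtain ⟨yt, hyt, hytK⟩ := exists_lift ht
  let X : K := ⟨mk8 F yx, hyxK⟩
  let T : K := ⟨mk8 F yt, hytK⟩
  have hbot : fx (lin x) ≠ ⊥ := b.irr2.1
  have hbot' : fx (lin t) ≠ ⊥ := by rw [b.tV]; exact b.irr6.1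
  have hX : orderOf X = r ^ k := by
    rw [← w.x_ord, ← Subgroup.orderOf_coe, ← hyx]
    exact order_mk (by rw [hyx]; exact hbot)
  have hT : orderOf T = mt (p ^ a) := by
    rw [← hF, ← w.t_ord, ← Subgroup.orderOf_coe, ← hyt]
    exact order_mk (by rw [hyt]; exact hbot')
  have hinj : Function.Injective (gl8 F) := (isometryGroup F (quadFormPlus 4 F)).subtype_injective.comp
    (Omega F (quadFormPlus 4 F)).subtype_injective
  have hXT : X * T = T * X := by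
    apply Subtype.ext
    change mk8 F yx * mk8 F yt = mk8 F yt * mk8 F yx
    rw [← map_mul, ← map_mul]
    congr 1
    apply hinj
    rw [map_mul, map_mul, hyx, hyt, w.comm]
  -- lifts of conjugates
  have hlift : ∀ (n : ℕ) {T' : K}, IsConj (T ^ n) T' → ∃ y g : Omega F (quadFormPlus 4 F), mk8 F y = T' ∧
      gl8 F y = gl8 F g * t ^ n * (gl8 F g)⁻¹ := by
    intro n T' hc
    obtain ⟨C, hC⟩ := isConj_iff.1 hc
    obtain ⟨g, hg⟩ := QuotientGroup.mk'_surjective (Subgroup.center (Omega F (quadFormPlus 4 F))) (C : T8 F)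
    refine ⟨g * yt ^ n * g⁻¹, g, ?_, ?_⟩
    · rw [← hC]
      change mk8 F (g * yt ^ n * g⁻¹) = C * (mk8 F yt) ^ n * (C : T8 F)⁻¹
      rw [map_mul, map_mul, map_pow, map_inv]
      change mk8 F g = C at hg
      rw [hg]
    · rw [map_mul, map_mul, map_pow, map_inv, hyt]
  -- three conjugates
  have k3 : (∃ t₁ t₂ t₃ : K, IsConj T t₁ ∧ IsConj T t₂ ∧ IsConj T t₃ ∧ T * t₁ = t₁ * T ∧ T * t₂ = t₂ * T ∧
      T * t₃ = t₃ * T ∧ t₁ ∉ Subgroup.zpowers T ∧ t₂ ∉ Subgroup.zpowers T ∧ t₃ ∉ Subgroup.zpowers T ∧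
      t₁ * t₂ * t₃ = T) → False := by
    rintro ⟨t₁, t₂, t₃, h1, h2, h3, c1, c2, c3, n1, n2, n3, hm⟩
    obtain ⟨y₁, g₁, m1, d1⟩ := hlift 1 (T' := t₁) (by rw [pow_one]; exact h1)
    obtain ⟨y₂, g₂, m2, d2⟩ := hlift 1 (T' := t₂) (by rw [pow_one]; exact h2)
    obtain ⟨y₃, g₃, m3, d3⟩ := hlift 1 (T' := t₃) (by rw [pow_one]; exact h3)
    rw [pow_one] at d1 d2 d3
    have hcs : ∀ {y : Omega F (quadFormPlus 4 F)} {t' : K}, mk8 F y = t' → T * t' = t' * T →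
        ∃ e : F, ∀ v, lin t (lin (gl8 F y) v) = e • lin (gl8 F y) (lin t v) := by
      intro y t' hy hc
      obtain ⟨e, he⟩ := mk8_eq (y := yt * y) (y' := y * yt) (by
        rw [map_mul, map_mul, hy]
        exact congrArg Subtype.val hc)
      refine ⟨e, fun v => ?_⟩
      have h5 := he v
      rwa [map_mul, map_mul, lin_mul_apply, lin_mul_apply, hyt] at h5
    have hnz : ∀ {y : Omega F (quadFormPlus 4 F)} {t' : K}, mk8 F y = t' → t' ∉ Subgroup.zpowers T →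
        gl8 F y ∉ Subgroup.zpowers t := by
      intro y t' hy hn hz
      apply hn
      obtain ⟨i, hi⟩ := Subgroup.mem_zpowers_iff.1 hz
      refine Subgroup.mem_zpowers_iff.2 ⟨i, Subtype.ext ?_⟩
      rw [← hy]
      change (mk8 F yt) ^ i = _
      rw [← map_zpow]
      congr 1
      apply hinj
      rw [map_zpow, hyt, hi]
    obtain ⟨e1, k1⟩ := hcs m1 c1
    obtain ⟨e2, k2⟩ := hcs m2 c2
    obtain ⟨e3, k3⟩ := hcs m3 c3
    obtain ⟨e, he⟩ := mk8_eq (y := y₁ * y₂ * y₃) (y' := yt) (by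
      rw [map_mul, map_mul, m1, m2, m3]
      exact congrArg Subtype.val hm)
    refine kill3 hF h.weak w b d1 d2 d3 k1 k2 k3 (e := e) (fun v => ?_) (hnz m1 n1) (hnz m2 n2) (hnz m3 n3)
    have h5 := he v
    rwa [map_mul, map_mul, lin_mul_apply, lin_mul_apply, hyt] at h5
  have hrK : r ∣ Nat.card K := by
    have h1 : orderOf X ∣ Nat.card K := orderOf_dvd_natCard X
    rw [hX] at h1
    exact (dvd_pow_self r (by have := h.hk; omega)).trans h1
  by_cases hL : IsLieTypeChar p (Soc P)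
  · rcases own hK S hS hna hC hP e hL hrK with ⟨E, i1, i2, hE, ⟨f⟩⟩ | hN | ⟨E, i1, i2, hE, ⟨f⟩⟩ |
      ⟨hp2, E, i1, i2, hE, ⟨f⟩⟩
    · obtain ⟨t₁, t₂, h1, h2, hm⟩ := psl2 S hC hX hT hXT hE f
      obtain ⟨y₁, g₁, m1, d1⟩ := hlift 2 h1
      obtain ⟨y₂, g₂, m2, d2⟩ := hlift 2 h2
      obtain ⟨e, he⟩ := mk8_eq (y := y₁ * y₂) (y' := yx) (by
        rw [map_mul, m1, m2]
        exact congrArg Subtype.val hm)
      refine kill2 b d1 d2 (e := e) fun v => ?_
      have h5 := he v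
      rwa [map_mul, lin_mul_apply, hyx] at h5
    · exact psu3 S hC hX hT hXT hN
    · exact k3 (sp6 S hC hX hT hXT hE f)
    · exact k3 (po7 S hC hX hT hXT hp2 hE f)
  · exact cross S hS hna hC hP e hL hX hT hXT

end

end Cfsg.Agent.H823.O8S
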