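import Cfsg.Agent.H823.O8S.Ext
import Cfsg.Agent.H884.ElIrr
import Cfsg.Agent.H834.O8.Symp

/-!
# S3938-OPLUS8: overgroups of `x`, `t`: the geometric classes (helper823)
-/

set_option autoImplicit false
set_option linter.unusedSectionVars false

namespace Cfsg.Agent.H823.O8S

open Module QuadraticMap Cfsg Cfsg.Geo Cfsg.Agent.LieClassical.OrthCore Cfsg.Agent.H955 Cfsg.Agent.H954.TSing
open Cfsg.Agent.LieClassical.OmegaReindex
open Cfsg.Agent.H951 (fx cm Inv Irr)
open Cfsg.Agent.H884.El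
open Cfsg.Agent.H708.O8 (I8 T8)
open Cfsg.Agent.H436 (Prim)
open scoped MatrixGroups Matrix

variable {F : Type} [Field F] [Fintype F] {p a r k : ℕ} {x t z : GL I8 F} {J J' : Module.End F (I8 → F)} {c d : F}

theorem iso_of_mem {g : GL I8 F} (hg : g ∈ isometryGroup F (quadFormPlus 4 F)) (v : I8 → F) :
    quadFormPlus 4 F (lin g v) = quadFormPlus 4 F v := by
  have h : isometryGroup F (quadFormPlus 4 F) ≤ isometryGroup F (⇑(quadPlus 4 F)) := by rw [coe_quadPlus]
  have := lin_iso h hg v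
  rwa [coe_quadPlus] at this

theorem nondeg8 {v : I8 → F} (h : ∀ u, polar (quadFormPlus 4 F) u v = 0) : v = 0 := by
  have h2 : (polarBilin (quadPlus 4 F)).Nondegenerate := quadPlus_nondegenerate
  exact h2.2 v (fun u => by
    rw [polarBilin_apply_apply, coe_quadPlus]
    exact h u)

theorem polar_add_left8 (u u' v : I8 → F) : polar (quadFormPlus 4 F) (u + u') v =
    polar (quadFormPlus 4 F) u v + polar (quadFormPlus 4 F) u' v := by
  rw [← coe_quadPlus]
  exact polar_add_left (quadPlus 4 F) u u' v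

theorem polar_comm8 (u v : I8 → F) : polar (quadFormPlus 4 F) u v = polar (quadFormPlus 4 F) v u :=
  polar_comm _ u v

/-- `W = V₆^⊥` -/
theorem Base.mem_fx_of_perp (b : Base x t z r) {u : I8 → F}
    (h : ∀ v ∈ cm (lin x), polar (quadFormPlus 4 F) u v = 0) : u ∈ fx (lin x) := by
  have h3 : u ∈ fx (lin x) ⊔ cm (lin x) := by rw [b.compl.sup_eq_top]; exact Submodule.mem_top
  obtain ⟨u1, hu1, u2, hu2, rfl⟩ := Submodule.mem_sup.1 h3
  have h4 : u2 = 0 := by
    refine nondeg8 fun v => ?_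
    have h5 : v ∈ fx (lin x) ⊔ cm (lin x) := by rw [b.compl.sup_eq_top]; exact Submodule.mem_top
    obtain ⟨v1, hv1, v2, hv2, rfl⟩ := Submodule.mem_sup.1 h5
    rw [polar_add_left8, b.perp v1 hv1 u2 hu2, zero_add]
    have h6 := h v2 hv2
    rw [polar_add_left8, b.perp u1 hu1 v2 hv2, zero_add] at h6
    rw [polar_comm8]
    exact h6
  rw [h4, add_zero]
  exact hu1

theorem le_SW {H : Subgroup (GL I8 F)} {W : Submodule F (I8 → F)} (h : ∀ g ∈ H, ∀ w ∈ W, lin g w ∈ W) : H ≤ SW W := by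
  intro g hg
  rw [mem_SW]
  apply le_antisymm
  · rintro _ ⟨w, hw, rfl⟩
    exact h g hg w hw
  · intro w hw
    exact ⟨lin g⁻¹ w, h _ (H.inv_mem hg) w hw, lin_apply_inv g w⟩

/-- the subspaces invariant under `x` and `t` -/
theorem Base.inv_cases (b : Base x t z r) {U : Submodule F (I8 → F)} (hz : Inv (lin z) U) (ht : Inv (lin t) U) :
    U = ⊥ ∨ U = fx (lin x) ∨ U = cm (lin x) ∨ U = ⊤ := by
  have hr0 : (r : F) ≠ 0 := b.pp.ne0 (by norm_num)
  have hzr : lin z ^ r = 1 := by rw [← lin_pow, b.z_pow, lin_one]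
  have h1 := H951.inf_fx_sup_inf_cm hr0 hzr hz
  rw [b.fxz, b.cmz] at h1
  have h2 : U ⊓ cm (lin x) = ⊥ ∨ U ⊓ cm (lin x) = cm (lin x) :=
    b.irr6.2.2 _ inf_le_right (hz.inf b.irr6.2.1)
  have h3 : U ⊓ fx (lin x) = ⊥ ∨ U ⊓ fx (lin x) = fx (lin x) :=
    b.irr2.2.2 _ inf_le_right (ht.inf b.irr2.2.1)
  rcases h2 with h2 | h2 <;> rcases h3 with h3 | h3 <;> rw [h2, h3] at h1
  · left; rw [← h1, bot_sup_eq]
  · right; left; rw [← h1, sup_bot_eq]
  · right; right; left; rw [← h1, bot_sup_eq]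
  · right; right; right; rw [← h1, b.compl.sup_eq_top]

/-- **reducible overgroups** -/
theorem red_case (b : Base x t z r) {H : Subgroup (GL I8 F)} (hH : H ≤ isometryGroup F (quadFormPlus 4 F)) (hx : x ∈ H)
    (ht : t ∈ H) (hirr : ¬ ActsIrreducibly (matrixSet H)) : H ≤ SW (fx (lin x)) := by
  unfold ActsIrreducibly at hirr
  push Not at hirr
  obtain ⟨U, hU, hU1, hU2⟩ := hirr
  have hinv : ∀ g ∈ H, ∀ u ∈ U, lin g u ∈ U := fun g hg u hu =>
    hU _ ⟨g, hg, rfl⟩ ⟨u, hu, rfl⟩
  have hzH : z ∈ H := by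
    obtain ⟨n, rfl⟩ := b.z_eq
    exact Subgroup.pow_mem _ hx n
  rcases b.inv_cases (hinv z hzH) (hinv t ht) with h | h | h | h
  · exact absurd h hU1
  · rw [← h]
    exact le_SW hinv
  · refine le_SW fun g hg u hu => b.mem_fx_of_perp fun v hv => ?_
    have h1 : polar (quadFormPlus 4 F) (lin g u) v = polar (quadFormPlus 4 F) u (lin g⁻¹ v) := by
      have h2 : ∀ v, quadFormPlus 4 F (lin g v) = quadFormPlus 4 F v := iso_of_mem (hH hg)
      rw [← polar_iso' h2 u (lin g⁻¹ v), lin_apply_inv]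
    rw [h1]
    refine b.perp u hu _ ?_
    rw [← h] at hv ⊢
    exact hinv _ (H.inv_mem hg) v hv
  · exact absurd h hU2

/-- what remains in the monomial class -/
def Mono (H : Subgroup (GL I8 F)) : Prop :=
  ∃ D : Fin 8 → Submodule F (I8 → F), IsOrthogonalMDecomposition (quadFormPlus 4 F) 1 D ∧ H ≤ decompositionStabilizer D

/-- what remains in the class of normalisers of groups of symplectic type -/
def SympT (H : Subgroup (GL I8 F)) : Prop :=
  ∃ R : Subgroup (GL I8 F), R ≤ H ∧ H ≤ subgroupNormalizer R ∧ ActsAbsolutelyIrreducibly (matrixSet R) ∧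
    IsSymplecticTypeGroup 2 R ∧
    ((Odd 2 ∧ Nat.card (Subgroup.center R) = 2 ∧ Nat.card R = 2 ^ (1 + 2 * 3)) ∨
     (2 = 2 ∧ Nat.card (Subgroup.center R) = 4 ∧ Nat.card R = 2 ^ (2 + 2 * 3)) ∨
     (2 = 2 ∧ Nat.card (Subgroup.center R) = 2 ∧ Nat.card R = 2 ^ (1 + 2 * 3)))

theorem card_I8 : Fintype.card I8 = 8 := by simp

/-- **the geometric classes** (also for `q = 5`) -/
theorem geo_row0 (hF : Nat.card F = p ^ a) (h : RW p a r k) (b : Base x t z r) (f : Two x t J J' c d)
    {H : Subgroup (GL I8 F)} (hH : H ≤ isometryGroup F (quadFormPlus 4 F)) (hx : x ∈ H) (ht : t ∈ H) :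
    H ≤ SW (fx (lin x)) ∨ H ≤ NJ J c ∨ H ≤ NJ J' c ∨ InOrthogonalResidualClass H ∨ (r = 7 ∧ Mono H) ∨
      (r = 7 ∧ SympT H) := by
  have hne : Nonempty I8 := ⟨Sum.inl 0⟩
  by_cases hirr : ActsIrreducibly (matrixSet H)
  swap
  · exact Or.inl (red_case b hH hx ht hirr)
  have hzH : z ∈ H := by
    obtain ⟨n, rfl⟩ := b.z_eq
    exact Subgroup.pow_mem _ hx n
  have hfin : Finite (GL I8 F) := inferInstance
  have hrH : r ∣ Nat.card H := by
    have h1 : orderOf (⟨z, hzH⟩ : H) = r := by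
      have : Fact r.Prime := ⟨b.pp.prime⟩
      refine orderOf_eq_prime (Subtype.ext b.z_pow) fun h0 => b.z_ne (congrArg Subtype.val h0)
    rw [← h1]
    exact orderOf_dvd_natCard _
  have hr := b.pp
  have h7 : 6 < r := hr.lt (by norm_num)
  have hq := one_lt_q F
  have hH' : H ≤ isometryGroup F (⇑(quadPlus 4 F)) := by rw [coe_quadPlus]; exact hH
  have hND : IsNondegenerateQuadraticForm (⇑(quadPlus 4 F)) :=
    Cfsg.Agent.H884.OddForm.isNondegenerate_of_nondeg (quadPlus 4 F) (nondeg_iff.2 quadPlus_nondegenerate)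
  rcases Cfsg.Agent.H925.orth_irreducible_fine (by rw [card_I8]; norm_num) hND hH' hirr with
    ⟨t', k', D, htk, hD, hHD, -⟩ | ⟨k', D, hk, hD, -, hHD⟩ | ⟨s, K, hs, hsn, hK, -, hHK⟩ |
    ⟨n₁, n₂, e, P, -, -, -, h1, h2, h12, -, -, -, -, hHT⟩ | ⟨F₁, s, B, -, -, hs, hcard, -, -, hHF⟩ |
    ⟨s, m, R, hRH, -, hHR, habs, hR, -, hm, hsm, -, ht', -⟩ | ⟨k', t', e, P, E, hkt, hW⟩ | hS
  · -- (C2a)
    rw [card_I8] at htk
    have h2t := hD.decomp.decomp.two_le
    have hkd : k' < 6 := by
      by_contra hcon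
      push Not at hcon
      have := Nat.mul_le_mul h2t hcon
      omega
    have hrt := decomp_le hD.decomp.decomp hHD hr hkd hrH
    have hk1 : k' = 1 := by
      have h3 : k' < 2 := by
        by_contra hcon
        push Not at hcon
        have := Nat.mul_le_mul hrt hcon
        omega
      have := hD.decomp.decomp.pos
      omega
    subst hk1
    obtain rfl : t' = 8 := by omega
    right; right; right; right; left
    refine ⟨?_, D, ?_, hHD⟩
    · have h8 : r ≠ 8 := by
        intro h0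
        have := hr.prime
        rw [h0] at this
        exact absurd this (by norm_num)
      omega
    · rw [← coe_quadPlus]
      exact hD
  · -- (C2b)
    exfalso
    rw [card_I8] at hk
    have := decomp_le hD hHD hr (by omega) hrH
    omega
  · -- (C3)
    rw [card_I8] at hsn
    have hs2 : s = 2 := by
      have h3 : s ∣ 2 ^ 3 := by norm_num; exact hsn
      exact (Nat.prime_dvd_prime_iff_eq hs Nat.prime_two).1 (hs.dvd_of_dvd_pow h3)
    subst hs2
    rcases ext_case b f hK hx ht hHK with h3 | h3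
    · exact Or.inr (Or.inl h3)
    · exact Or.inr (Or.inr (Or.inl h3))
  · exact absurd (kill_tensor e P hHT h1 h2 h12 hr (by rw [card_I8]; norm_num) hrH) id
  · have hrp : PP p (a * 6) r := by
      rw [mul_comm]
      exact prim_pp h.hp.one_le h.prim
    exact absurd (kill_subfield hHF hs hcard h.hp hF hrp (by rw [card_I8]; norm_num) (by norm_num) hrH) id
  · -- (C6)
    right; right; right; right; right
    have h3 := symp_le hHR habs hR hm hsm ht' hr (by norm_num) hrH
    rw [card_I8] at h3 hsm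
    have hs2 : s = 2 := by
      have h4 : s ∣ 2 ^ 3 := by
        have h5 : (2 : ℕ) ^ 3 = s ^ m := by rw [← hsm]; norm_num
        rw [h5]
        exact dvd_pow_self s (by omega)
      exact (Nat.prime_dvd_prime_iff_eq hR.prime Nat.prime_two).1 (hR.prime.dvd_of_dvd_pow h4)
    subst hs2
    have hm3 : m = 3 := by
      have h5 : (2 : ℕ) ^ m = 2 ^ 3 := by rw [← hsm]; norm_num
      exact Nat.pow_right_injective (le_refl 2) h5
    subst hm3
    refine ⟨?_, R, hRH, hHR, habs, hR, ht'⟩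
    have h8 : r ≠ 8 := by
      intro h0
      have := hr.prime
      rw [h0] at this
      exact absurd this (by norm_num)
    have h9 : r ≠ 9 := by
      intro h0
      have := hr.prime
      rw [h0] at this
      exact absurd this (by norm_num)
    omega
  · exact absurd (kill_wreath hW hkt hr (by rw [card_I8]; norm_num) hrH) id
  · exact Or.inr (Or.inr (Or.inr (Or.inl hS)))

/-- no element of order `49` in the monomial group -/
theorem mono_kill (hx : orderOf x = 49) (h7 : ¬ 7 ∣ Nat.card F - 1) {H : Subgroup (GL I8 F)} (hxH : x ∈ H)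
    (h : Mono H) : False := by
  obtain ⟨D, hD, hHD⟩ := h
  have hd := hD.decomp.decomp
  have hinj : Function.Injective D := by
    intro i j hij
    by_contra hne
    have h1 := hd.indep.pairwiseDisjoint hne
    rw [Function.onFun, hij, disjoint_self] at h1
    have h2 := hd.finrank_eq j
    rw [h1, finrank_bot] at h2
    omega
  obtain ⟨σ, hσ⟩ := hHD hxH
  have hmap : ∀ j : ℕ, ∀ i, (D i).map (Matrix.toLin' ((x ^ j : GL I8 F) : Matrix I8 I8 F)) = D ((σ ^ j) i) := by
    intro j
    induction j with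
    | zero => intro i; simp
    | succ j ih =>
      intro i
      rw [pow_succ', Units.val_mul, Matrix.toLin'_mul, Submodule.map_comp, ih, hσ, pow_succ', Equiv.Perm.mul_apply]
  have hσ49 : σ ^ 49 = 1 := by
    apply Equiv.ext
    intro i
    apply hinj
    rw [← hmap, ← hx, pow_orderOf_eq_one, Units.val_one, Matrix.toLin'_one, Submodule.map_id]
    rfl
  have hσ7 : σ ^ 7 = 1 := by
    have h1 : orderOf σ ∣ 7 ^ 2 := orderOf_dvd_of_pow_eq_one hσ49
    obtain ⟨i, hi, hi2⟩ := (Nat.dvd_prime_pow (by norm_num : Nat.Prime 7)).1 h1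
    have h2 : orderOf σ ∣ 40320 := by
      have h3 := orderOf_dvd_natCard σ
      rw [Nat.card_eq_fintype_card, Fintype.card_perm, Fintype.card_fin] at h3
      exact h3.trans (by decide)
    have h3 : i ≤ 1 := by
      by_contra hcon
      obtain rfl : i = 2 := by omega
      rw [hi2] at h2
      revert h2
      decide
    rw [← orderOf_dvd_iff_pow_eq_one, hi2]
    exact (pow_dvd_pow 7 h3).trans (by norm_num)
  -- `x ^ 7` is the identity on every `D i`
  have hone : ∀ i, ∀ v ∈ D i, lin (x ^ 7) v = v := by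
    intro i v hv
    by_cases hv0 : v = 0
    · rw [hv0, map_zero]
    have h1 := hmap 7 i
    rw [hσ7, Equiv.Perm.one_apply] at h1
    have h2 : lin (x ^ 7) v ∈ D i := by
      rw [← h1]
      exact ⟨v, hv, rfl⟩
    obtain ⟨c, hc⟩ := (finrank_eq_one_iff_of_nonzero' (⟨v, hv⟩ : D i) (fun h0 => hv0 (congrArg Subtype.val h0))).1
      (hd.finrank_eq i) ⟨lin (x ^ 7) v, h2⟩
    have hc' : lin (x ^ 7) v = c • v := (congrArg Subtype.val hc).symm
    have hpow : ∀ n : ℕ, (lin (x ^ 7) ^ n) v = c ^ n • v := by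
      intro n
      induction n with
      | zero => simp
      | succ n ih => rw [pow_succ', Module.End.mul_apply, ih, map_smul, hc', smul_smul, pow_succ]
    have hc7 : c ^ 7 = 1 := by
      have h5 := hpow 7
      rw [← lin_pow, ← pow_mul, show 7 * 7 = 49 by norm_num, ← hx, pow_orderOf_eq_one, lin_one,
        Module.End.one_apply] at h5
      have h6 : (c ^ 7 - 1) • v = 0 := by rw [sub_smul, one_smul, ← h5, sub_self]
      exact sub_eq_zero.1 ((smul_eq_zero.1 h6).resolve_right hv0)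
    have hc0 : c ≠ 0 := by
      rintro rfl
      norm_num at hc7
    have hcq : c ^ (Nat.card F - 1) = 1 := by
      rw [Nat.card_eq_fintype_card]
      exact FiniteField.pow_card_sub_one_eq_one c hc0
    have hc1 : c = 1 := by
      have h3 : orderOf c ∣ 7 := orderOf_dvd_of_pow_eq_one hc7
      rcases (Nat.dvd_prime (by norm_num : Nat.Prime 7)).1 h3 with h4 | h4
      · exact orderOf_eq_one_iff.1 h4
      · exact absurd (h4 ▸ orderOf_dvd_of_pow_eq_one hcq) h7
    rw [hc', hc1, one_smul]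
  have h1 : x ^ 7 = 1 := by
    apply lin_injective
    rw [lin_one]
    refine LinearMap.ext fun v => ?_
    have hv : v ∈ (⨆ i, D i) := by rw [hd.iSup_eq_top]; exact Submodule.mem_top
    refine Submodule.iSup_induction D (motive := fun v => lin (x ^ 7) v = (1 : Module.End F (I8 → F)) v) hv ?_ ?_ ?_
    · intro i v hv
      exact hone i v hv
    · rw [map_zero, map_zero]
    · intro u v hu hv
      rw [map_add, hu, hv, map_add]
  have h2 := orderOf_dvd_of_pow_eq_one h1
  rw [hx] at h2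
  revert h2
  decide

/-- no element of order `r ^ k` normalises a group of symplectic type -/
theorem symp_kill (hF : Nat.card F = p ^ a) (h : RK p a r k) (hx : orderOf x = r ^ k) {H : Subgroup (GL I8 F)}
    (hxH : x ∈ H) (hS : SympT H) : False := by
  have hne : Nonempty I8 := ⟨Sum.inl 0⟩
  have hfin : Finite (GL I8 F) := inferInstance
  obtain ⟨R, hRH, hHR, habs, hR, ht⟩ := hS
  obtain ⟨C⟩ := H708.O8.exists_coord_of habs hR (m := 3) (by norm_num) (by rw [card_I8]; norm_num) ht
  have h1 := H708.O8.card_dvd_of_coord Nat.prime_two habs C hHR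
  have hN : r ^ k ∣ Nat.card H := by
    have h1 : orderOf (⟨x, hxH⟩ : H) = r ^ k := by rw [Subgroup.orderOf_mk, hx]
    rw [← h1]
    exact orderOf_dvd_natCard _
  have hr := h.prim.prime
  have h7 := h.seven
  have hc1 : Nat.Coprime (r ^ k) (Nat.card R) := by
    obtain ⟨n, hn⟩ : ∃ n, Nat.card R = 2 ^ n := by
      rcases ht with h1 | h1 | h1
      · exact ⟨_, h1.2.2⟩
      · exact ⟨_, h1.2.2⟩
      · exact ⟨_, h1.2.2⟩
    rw [hn]
    exact Nat.Coprime.pow _ _ ((Nat.coprime_primes hr Nat.prime_two).2 (by omega))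
  have hc2 : Nat.Coprime (r ^ k) (Nat.card F - 1) := by
    apply Nat.Coprime.pow_left
    rw [hr.coprime_iff_not_dvd, hF, h.prim.dvd_iff]
    intro h1
    have h2 := Nat.le_of_dvd h.ha h1
    have h3 := h.ha
    omega
  have h2 := (Nat.Coprime.mul_right hc1 hc2).dvd_of_dvd_mul_left (hN.trans h1)
  rw [LieClassical.SympCount.card_symplecticGroup, ZMod.card] at h2
  have h3 : (2 : ℕ) ^ (3 ^ 2) * ∏ i ∈ Finset.range 3, (2 ^ (2 * (i + 1)) - 1) = 2 ^ 9 * 3 ^ 4 * (5 * 7) := by decide
  rw [h3] at h2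
  have c2 : Nat.Coprime (r ^ k) (2 ^ 9) := Nat.Coprime.pow _ _ ((Nat.coprime_primes hr Nat.prime_two).2 (by omega))
  have c3 : Nat.Coprime (r ^ k) (3 ^ 4) := Nat.Coprime.pow _ _ ((Nat.coprime_primes hr Nat.prime_three).2 (by omega))
  have h4 := (Nat.Coprime.mul_right c2 c3).dvd_of_dvd_mul_left h2
  rcases h.cases with ⟨h5, rfl⟩ | ⟨rfl, rfl⟩
  · rw [pow_one] at h4
    rcases hr.dvd_mul.1 h4 with h6 | h6
    · have := Nat.le_of_dvd (by norm_num) h6
      omega
    · have := Nat.le_of_dvd (by norm_num) h6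
      omega
  · norm_num at h4

/-- **the geometric classes**, `q ≥ 4`, `q ≠ 5` -/
theorem geo_row (hF : Nat.card F = p ^ a) (h : RK p a r k) (w : Wit x t (r ^ k)) (f : Two x t J J' c d)
    {H : Subgroup (GL I8 F)} (hH : H ≤ isometryGroup F (quadFormPlus 4 F)) (hx : x ∈ H) (ht : t ∈ H) :
    H ≤ SW (fx (lin x)) ∨ H ≤ NJ J c ∨ H ≤ NJ J' c ∨ InOrthogonalResidualClass H := by
  obtain ⟨z, b⟩ := base hF h w
  rcases geo_row0 hF h.weak b f hH hx ht with h1 | h1 | h1 | h1 | ⟨hr, h1⟩ | ⟨-, h1⟩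
  · exact Or.inl h1
  · exact Or.inr (Or.inl h1)
  · exact Or.inr (Or.inr (Or.inl h1))
  · exact Or.inr (Or.inr (Or.inr h1))
  · exfalso
    obtain ⟨-, hk⟩ : r = 7 ∧ k = 2 := by
      rcases h.cases with h2 | h2
      · omega
      · exact h2
    subst hr
    refine mono_kill (x := x) (by rw [w.x_ord, hk]; norm_num) ?_ hx h1
    rw [hF, h.prim.dvd_iff]
    intro h1
    have h2 := Nat.le_of_dvd h.ha h1
    have h3 := h.ha
    omega
  · exact (symp_kill hF h w.x_ord hx h1).elim

end Cfsg.Agent.H823.O8S
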