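import Cfsg.Agent.H823.O8S.Res
import Cfsg.Agent.H332.O8S.NotConj
import Cfsg.Agent.H264.O8S.NineU
import Cfsg.Agent.H938.Spr.Three

/-!
# S3938-OPLUS8: `Spr (PΩ⁺₈(q))` from the overgroup theorem (helper823)
-/

set_option autoImplicit false
set_option linter.unusedSectionVars false

namespace Cfsg.Agent.H823.O8S

open Module QuadraticMap Cfsg Cfsg.Geo Cfsg.Agent.LieClassical.OrthCore Cfsg.Agent.H955 Cfsg.Agent.H954.TSing
open Cfsg.Agent.LieClassical.OmegaReindex
open Cfsg.Agent.H951 (fx cm Inv Irr)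
open Cfsg.Agent.H884.El
open Cfsg.Agent.H708.O8 (I8 T8)
open Cfsg.Agent.H424.Spr
open Cfsg.Agent.H264.O8S (mem_tp scal_SW scal_NJ)
open scoped MatrixGroups Matrix Pointwise

variable {F : Type} [Field F] [Fintype F] {p a r k : ℕ} {x t z : GL I8 F} {J J' J₁ : Module.End F (I8 → F)} {c d : F}

theorem Two.symm (f : Two x t J J' c d) : Two x t J' J c d :=
  ⟨f.fJ', f.fJ, f.cx', f.ct', f.cx, f.ct, fun v hv => (f.agree v hv).symm, fun v hv => by
    rw [f.conj v hv]
    abel⟩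

/-- `J` and its conjugate `c - J` differ on every non-zero vector -/
theorem Fld.ne_conj (f : Fld J c d) {v : I8 → F} (hv : v ≠ 0) : J v ≠ c • v - J v := by
  intro h
  have h1 : (2 : F) • J v = c • v := by
    rw [two_smul]
    nth_rewrite 1 [h]
    abel
  have h2 := f.app v
  by_cases h20 : (2 : F) = 0
  · rw [h20, zero_smul] at h1
    have hc : c = 0 := (smul_eq_zero.1 h1.symm).resolve_right hv
    have hch : CharP F 2 := CharTwo.of_one_ne_zero_of_two_eq_zero one_ne_zero h20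
    obtain ⟨e, he⟩ := FiniteField.isSquare_of_char_two (ringChar.eq F 2) d
    apply f.irr e
    rw [hc, ← he]
    linear_combination d * h20
  · have h3 : J v = (c / 2) • v := by
      rw [div_eq_inv_mul, mul_smul, ← h1, smul_smul, inv_mul_cancel₀ h20, one_smul]
    rw [h3, map_smul, h3, smul_smul, smul_smul, ← sub_smul] at h2
    have h4 : (c / 2 * (c / 2) - (c * (c / 2) - d)) • v = 0 := by rw [sub_smul, h2, sub_self]
    apply f.irr (c / 2)
    have h5 := (smul_eq_zero.1 h4).resolve_right hv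
    linear_combination h5

/-- an element of odd order which normalises `F[J₁]` commutes with `J₁` -/
theorem comm_of_odd (f : Fld J₁ c d) {y : GL I8 F} (hy : y ∈ NJ J₁ c) {n : ℕ} (hn : Odd n) (hyn : y ^ n = 1) (v : I8 → F) :
    lin y (J₁ v) = J₁ (lin y v) := by
  rcases hy with h | h
  · exact h v
  exfalso
  have h2 : ∀ v, lin (y ^ 2) (J₁ v) = J₁ (lin (y ^ 2) v) := by
    intro v
    rw [pow_two, lin_mul_apply, lin_mul_apply, h, map_sub, h, map_smul]
    abel
  have h3 : ∀ m : ℕ, ∀ v, lin (y ^ (2 * m)) (J₁ v) = J₁ (lin (y ^ (2 * m)) v) := by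
    intro m
    induction m with
    | zero => intro v; rw [mul_zero, pow_zero, lin_one]; rfl
    | succ m ih =>
      intro v
      rw [mul_add, mul_one, pow_add, lin_mul_apply, lin_mul_apply, h2, ih]
  obtain ⟨m, rfl⟩ := hn
  obtain ⟨v, hv⟩ := exists_ne (0 : I8 → F)
  have h4 : ∀ v, J₁ v = c • v - J₁ v := by
    intro v
    have h5 : lin (y ^ (2 * m + 1)) (J₁ v) = c • lin (y ^ (2 * m + 1)) v - J₁ (lin (y ^ (2 * m + 1)) v) := by
      rw [pow_succ', lin_mul_apply, lin_mul_apply, h3, h]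
    rw [hyn, lin_one] at h5
    exact h5
  exact f.ne_conj hv (h4 v)

/-- **uniqueness of the fields normalised by `x` and `t`** -/
theorem norm_cases (b : Base x t z r) (f : Two x t J J' c d) (f₁ : Fld J₁ c d) (hx : x ∈ NJ J₁ c) (ht : t ∈ NJ J₁ c) :
    (∀ v, J₁ v = J v) ∨ (∀ v, J₁ v = c • v - J v) ∨ (∀ v, J₁ v = J' v) ∨ (∀ v, J₁ v = c • v - J' v) := by
  have hz : z ∈ NJ J₁ c := by
    obtain ⟨n, rfl⟩ := b.z_eq
    exact Subgroup.pow_mem _ hx n
  have hodd : Odd r := b.pp.odd (by norm_num)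
  have hcz := comm_of_odd f₁ hz hodd b.z_pow
  -- it is enough to treat the case of agreement on `V₆`
  have key : ∀ {J₁ : Module.End F (I8 → F)}, Fld J₁ c d → t ∈ NJ J₁ c → (∀ v, lin z (J₁ v) = J₁ (lin z v)) →
      (∀ v ∈ cm (lin x), J₁ v = J v) → (∀ v, J₁ v = J v) ∨ (∀ v, J₁ v = J' v) := by
    intro J₁ f₁ ht hcz h6
    have htj : ∀ v, J₁ (lin t v) = lin t (J₁ v) := by
      rcases ht with h1 | h1
      · exact fun v => (h1 v).symm
      · exfalso
        obtain ⟨v, hv, hv0⟩ := (Submodule.ne_bot_iff _).1 b.irr6.1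
        have h5 : lin t v = v := by rw [← H951.mem_fx, b.tV]; exact hv
        have h6' : lin t (J₁ v) = J₁ v := by
          rw [← H951.mem_fx, b.tV, h6 v hv]
          exact pres_cm (fun v => LinearMap.congr_fun f.cx v) hv
        have h7 := h1 v
        rw [h6', h5] at h7
        exact f₁.ne_conj hv0 h7
    have hW : ∀ {A : Module.End F (I8 → F)}, (∀ v, A (lin t v) = lin t (A v)) → ∀ w ∈ fx (lin x), A w ∈ fx (lin x) := by
      intro A hA w hw
      rw [← b.tW] at hw ⊢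
      exact pres_cm hA hw
    have hct : ∀ v, J (lin t v) = lin t (J v) := fun v => LinearMap.congr_fun f.ct v
    rcases two_roots b.irr2 (A := J₁) (B := J) (LinearMap.ext htj) f.ct (hW htj) (hW hct)
      (c := c) (d := d) (fun w _ => f₁.app w) (fun w _ => f.fJ.app w) with h2 | h2
    · left
      intro v
      have h3 : v ∈ fx (lin x) ⊔ cm (lin x) := by rw [b.compl.sup_eq_top]; exact Submodule.mem_top
      obtain ⟨u, hu, u', hu', rfl⟩ := Submodule.mem_sup.1 h3
      rw [map_add, map_add, h2 u hu, h6 u' hu']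
    · right
      intro v
      have h3 : v ∈ fx (lin x) ⊔ cm (lin x) := by rw [b.compl.sup_eq_top]; exact Submodule.mem_top
      obtain ⟨u, hu, u', hu', rfl⟩ := Submodule.mem_sup.1 h3
      rw [map_add, map_add, h2 u hu, h6 u' hu', f.conj u hu, f.agree u' hu']
  have hJz := comm_zpow b f.cx
  have hV : ∀ {A : Module.End F (I8 → F)}, (∀ v, A (lin z v) = lin z (A v)) → ∀ w ∈ cm (lin x), A w ∈ cm (lin x) := by
    intro A hA w hw
    rw [← b.cmz] at hw ⊢
    exact pres_cm hA hw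
  rcases two_roots b.irr6 (A := J₁) (B := J) (LinearMap.ext fun v => (hcz v).symm) hJz (hV fun v => (hcz v).symm)
    (hV fun v => LinearMap.congr_fun hJz v) (c := c) (d := d) (fun w _ => f₁.app w) (fun w _ => f.fJ.app w) with h2 | h2
  · rcases key f₁ ht hcz h2 with h3 | h3
    · exact Or.inl h3
    · exact Or.inr (Or.inr (Or.inl h3))
  · -- replace `J₁` by `c - J₁`
    obtain ⟨J₂, hJ₂⟩ : ∃ J₂ : Module.End F (I8 → F), ∀ v, J₂ v = c • v - J₁ v :=
      ⟨c • (1 : Module.End F (I8 → F)) - J₁, fun v => rfl⟩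
    have f₂ : Fld J₂ c d := by
      refine ⟨?_, f₁.irr, ?_⟩
      · refine LinearMap.ext fun v => ?_
        rw [Module.End.mul_apply, hJ₂, hJ₂, map_sub, map_smul, f₁.app, LinearMap.sub_apply, LinearMap.smul_apply,
          LinearMap.smul_apply, Module.End.one_apply, hJ₂]
        abel
      · intro v
        rw [hJ₂, H332.O8S.coe_qq, H332.O8S.coe_qq]
        have e1 : c • v - J₁ v = c • v + (-1 : F) • J₁ v := by rw [neg_one_smul, sub_eq_add_neg]
        rw [e1, H332.O8S.qq_add, H332.O8S.qq_smul, H332.O8S.qq_smul, H332.O8S.Fld.q f₁, map_smul, map_smul,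
          LinearMap.smul_apply, smul_eq_mul, smul_eq_mul, H332.O8S.bb_comm v (J₁ v), H332.O8S.Fld.bs f₁]
        ring
    have ht₂ : t ∈ NJ J₂ c := by
      rcases ht with h1 | h1
      · left
        intro v
        rw [hJ₂, hJ₂, map_sub, map_smul, h1]
      · right
        intro v
        rw [hJ₂, hJ₂, map_sub, map_smul, h1]
    have h6 : ∀ v ∈ cm (lin x), J₂ v = J v := by
      intro v hv
      rw [hJ₂, h2 v hv]
      abel
    rcases key f₂ ht₂ (fun v => by rw [hJ₂, hJ₂, map_sub, map_smul, hcz]) h6 with h3 | h3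
    · right; left
      intro v
      rw [← h3 v, hJ₂]
      abel
    · right; right; right
      intro v
      rw [← h3 v, hJ₂]
      abel

/-! ### conjugates of the three overgroups -/

theorem mem_smul_iff' {L : Type*} [Group L] {y u : L} {U : Subgroup L} :
    u ∈ H424.Spr.c y • U ↔ y⁻¹ * u * y ∈ U := by
  rw [Subgroup.mem_pointwise_smul_iff_inv_smul_mem]
  change (MulAut.conj y)⁻¹ • u ∈ U ↔ _
  rw [← map_inv]
  change y⁻¹ * u * y⁻¹⁻¹ ∈ U ↔ _
  rw [inv_inv]

/-- `x` and `t` lie in the preimage -/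
theorem pre_of_mem {K : Subgroup (T8 F)} {yx : Omega F (quadFormPlus 4 F)} (h : mk8 F yx ∈ K) :
    gl8 F yx ∈ pre (quadFormPlus 4 F) K := mem_pre.2 h

section conj

variable {yx yt : Omega F (quadFormPlus 4 F)} (hyx : gl8 F yx = x) (hyt : gl8 F yt = t)
include hyx hyt

/-- `Stab (g W)` contains `x`, `t` only if `g W = W` -/
theorem conj_U₁ (b : Base x t z r) {y : T8 F} {U : Subgroup (T8 F)} (hxU : mk8 F yx ∈ U) (htU : mk8 F yt ∈ U)
    (h : H424.Spr.c y • U₁ x = U) : U ≤ U₁ x := by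
  obtain ⟨g, rfl⟩ := QuotientGroup.mk'_surjective _ y
  have hmem : ∀ u : Omega F (quadFormPlus 4 F), mk8 F u ∈ U ↔
      gl8 F u ∈ SW ((fx (lin x)).map (lin (gl8 F g))) := by
    intro u
    rw [← h, mem_smul_iff']
    change mk8 F (g⁻¹ * u * g) ∈ tp _ ↔ _
    rw [mem_tp (scal_SW _)]
    change gl8 F (g⁻¹ * u * g) ∈ SW _ ↔ _
    rw [map_mul, map_mul, map_inv, mem_SW, mem_SW]
    have e : ∀ W : Submodule F (I8 → F), W.map (lin ((gl8 F g)⁻¹ * gl8 F u * gl8 F g)) =
        ((W.map (lin (gl8 F g))).map (lin (gl8 F u))).map (lin (gl8 F g)⁻¹) := by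
      intro W
      rw [← Submodule.map_comp, ← Submodule.map_comp]
      congr 1
      refine LinearMap.ext fun v => ?_
      rw [LinearMap.comp_apply, LinearMap.comp_apply, lin_mul_apply, lin_mul_apply]
    have e2 : ∀ W : Submodule F (I8 → F), (W.map (lin (gl8 F g))).map (lin (gl8 F g)⁻¹) = W := by
      intro W
      rw [← Submodule.map_comp]
      have e3 : (lin (gl8 F g)⁻¹).comp (lin (gl8 F g)) = LinearMap.id := LinearMap.ext fun v => lin_inv_apply _ v
      rw [e3, Submodule.map_id]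
    rw [e]
    constructor
    · intro h1
      have h2 := congrArg (Submodule.map (lin (gl8 F g))) h1
      rw [← Submodule.map_comp] at h2
      have e3 : (lin (gl8 F g)).comp (lin (gl8 F g)⁻¹) = LinearMap.id := LinearMap.ext fun v => lin_apply_inv _ v
      rwa [e3, Submodule.map_id] at h2
    · intro h1
      rw [h1, e2]
  have hx := (hmem yx).1 hxU
  have ht := (hmem yt).1 htU
  rw [hyx] at hx
  rw [hyt] at ht
  have hz : z ∈ SW ((fx (lin x)).map (lin (gl8 F g))) := by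
    obtain ⟨n, rfl⟩ := b.z_eq
    exact Subgroup.pow_mem _ hx n
  have hinv : ∀ {y : GL I8 F} {W : Submodule F (I8 → F)}, y ∈ SW W → Inv (lin y) W := by
    intro y W hy w hw
    rw [mem_SW] at hy
    rw [← hy]
    exact ⟨w, hw, rfl⟩
  have hd : finrank F ((fx (lin x)).map (lin (gl8 F g))) = 2 := by
    rw [H955.finrank_map_of_injective _ (lin_inj _), b.dim2]
  have hW : (fx (lin x)).map (lin (gl8 F g)) = fx (lin x) := by
    rcases b.inv_cases (hinv hz) (hinv ht) with h1 | h1 | h1 | h1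
    · rw [h1, finrank_bot] at hd
      omega
    · exact h1
    · rw [h1, b.dim6] at hd
      omega
    · rw [h1, finrank_top, finrank_I8] at hd
      omega
  intro u hu
  obtain ⟨u', rfl⟩ := QuotientGroup.mk'_surjective _ u
  have h1 := (hmem u').1 hu
  rw [hW] at h1
  exact mk_mem_tp h1

/-- `N (g F[J] g⁻¹)` contains `x`, `t` only if the field is `F[J]` or `F[J']` -/
theorem conj_U₂ (b : Base x t z r) (f : Two x t J J' c d) {y : T8 F} {U : Subgroup (T8 F)} (hxU : mk8 F yx ∈ U)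
    (htU : mk8 F yt ∈ U) (h : H424.Spr.c y • U₂ J c = U) : U ≤ U₂ J c ∨ ∃ g ∈ omegaGL (quadFormPlus 4 F),
      ((∀ v, lin g (J v) = J' (lin g v)) ∨ (∀ v, lin g (J v) = c • lin g v - J' (lin g v))) := by
  obtain ⟨g, rfl⟩ := QuotientGroup.mk'_surjective _ y
  obtain ⟨J₁, hJ₁⟩ : ∃ J₁ : Module.End F (I8 → F), ∀ v, J₁ v = lin (gl8 F g) (J (lin (gl8 F g)⁻¹ v)) :=
    ⟨(lin (gl8 F g)).comp (J.comp (lin (gl8 F g)⁻¹)), fun v => rfl⟩
  have hg := iso_of_mem (g : isometryGroup F (quadFormPlus 4 F)).2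
  have hgi : ∀ v, quadFormPlus 4 F (lin (gl8 F g)⁻¹ v) = quadFormPlus 4 F v := by
    intro v
    have h1 := hg (lin (gl8 F g)⁻¹ v)
    change quadFormPlus 4 F (lin (gl8 F g) (lin (gl8 F g)⁻¹ v)) = _ at h1
    rw [lin_apply_inv] at h1
    exact h1.symm
  have f₁ : Fld J₁ c d := by
    refine ⟨?_, f.fJ.irr, ?_⟩
    · refine LinearMap.ext fun v => ?_
      rw [Module.End.mul_apply, hJ₁, hJ₁, lin_inv_apply, f.fJ.app, LinearMap.sub_apply, LinearMap.smul_apply,
        LinearMap.smul_apply, Module.End.one_apply, hJ₁, map_sub, map_smul, map_smul, lin_apply_inv]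
    · intro v
      rw [hJ₁]
      change quadFormPlus 4 F (lin ((g : isometryGroup F (quadFormPlus 4 F)) : GL I8 F) _) = _
      rw [hg, f.fJ.sim, hgi]
  have hmem : ∀ u : Omega F (quadFormPlus 4 F), mk8 F u ∈ U ↔ gl8 F u ∈ NJ J₁ c := by
    intro u
    rw [← h, mem_smul_iff']
    change mk8 F (g⁻¹ * u * g) ∈ tp _ ↔ _
    rw [mem_tp (scal_NJ _ _)]
    change gl8 F (g⁻¹ * u * g) ∈ NJ _ _ ↔ _
    rw [map_mul, map_mul, map_inv, mem_NJ, mem_NJ]
    have e : ∀ v, lin ((gl8 F g)⁻¹ * gl8 F u * gl8 F g) v = lin (gl8 F g)⁻¹ (lin (gl8 F u) (lin (gl8 F g) v)) := by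
      intro v
      rw [lin_mul_apply, lin_mul_apply]
    constructor
    · rintro (h1 | h1)
      · left
        intro v
        have h2 := h1 (lin (gl8 F g)⁻¹ v)
        rw [e, e, lin_apply_inv] at h2
        rw [hJ₁, hJ₁, ← h2, lin_apply_inv]
      · right
        intro v
        have h2 := h1 (lin (gl8 F g)⁻¹ v)
        rw [e, e, lin_apply_inv] at h2
        have h3 := congrArg (lin (gl8 F g)) h2
        rw [lin_apply_inv, map_sub, map_smul, lin_apply_inv] at h3
        rw [hJ₁, hJ₁, h3]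
    · rintro (h1 | h1)
      · left
        intro v
        have h2 := h1 (lin (gl8 F g) v)
        rw [hJ₁, hJ₁, lin_inv_apply] at h2
        rw [e, e, h2, lin_inv_apply]
      · right
        intro v
        have h2 := h1 (lin (gl8 F g) v)
        rw [hJ₁, hJ₁, lin_inv_apply] at h2
        rw [e, e, h2, map_sub, map_smul, lin_inv_apply]
  have hx := (hmem yx).1 hxU
  have ht := (hmem yt).1 htU
  rw [hyx] at hx
  rw [hyt] at ht
  have hle : (∀ v, J₁ v = J v) ∨ (∀ v, J₁ v = c • v - J v) → U ≤ U₂ J c := by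
    intro h1 u hu
    obtain ⟨u', rfl⟩ := QuotientGroup.mk'_surjective _ u
    refine mk_mem_tp ?_
    have h2 := mem_NJ.1 ((hmem u').1 hu)
    rw [mem_NJ]
    rcases h1 with h1 | h1
    · simp only [h1] at h2
      exact h2
    · rcases h2 with h2 | h2
      · left
        intro v
        have h3 := h2 v
        rw [h1, h1, map_sub, map_smul] at h3
        exact sub_right_injective h3
      · right
        intro v
        have h3 := h2 v
        rw [h1, h1, map_sub, map_smul] at h3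
        exact sub_right_injective h3
  rcases norm_cases b f f₁ hx ht with h1 | h1 | h1 | h1
  · exact Or.inl (hle (Or.inl h1))
  · exact Or.inl (hle (Or.inr h1))
  · right
    refine ⟨gl8 F g, ⟨_, g.2, rfl⟩, Or.inl fun v => ?_⟩
    have h2 := h1 (lin (gl8 F g) v)
    rwa [hJ₁, lin_inv_apply] at h2
  · right
    refine ⟨gl8 F g, ⟨_, g.2, rfl⟩, Or.inr fun v => ?_⟩
    have h2 := h1 (lin (gl8 F g) v)
    rwa [hJ₁, lin_inv_apply] at h2

end conj

/-- **`Spr` from the overgroup theorem** -/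
theorem spr_of_over [IsSimpleGroup (T8 F)] (hF : Nat.card F = p ^ a) (h : RW p a r k) (w : Wit x t (r ^ k)) (f : Two x t J J' c d)
    (hna : ∃ u v : T8 F, u * v ≠ v * u)
    (ho : ∀ {K : Subgroup (T8 F)}, x ∈ pre (quadFormPlus 4 F) K → t ∈ pre (quadFormPlus 4 F) K → K ≠ ⊤ →
      K ≤ U₁ x ∨ K ≤ U₂ J c ∨ K ≤ U₂ J' c)
    (hH : ∀ e : MulAut (T8 F), (∃ y : T8 F, e • U₁ x = H424.Spr.c y • U₁ x) →
      (∃ y : T8 F, e • U₂ J c = H424.Spr.c y • U₂ J c) → (∃ y : T8 F, e • U₂ J' c = H424.Spr.c y • U₂ J' c) →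
      e • U₁ x ≠ U₁ x → ∃ y ∈ U₁ x, e • (H424.Spr.c y • U₂ J c) ≠ H424.Spr.c y • U₂ J c ∧
        e • (H424.Spr.c y • U₂ J' c) ≠ H424.Spr.c y • U₂ J' c) : Spr (T8 F) := by
  obtain ⟨z, b⟩ := base_w hF h w
  obtain ⟨i1, i2, i3⟩ := H264.O8S.u_inf_w hF h w f
  obtain ⟨n1, n2, n3, n4⟩ := H264.O8S.u_not_le_w hF h w f
  obtain ⟨n5, n6, -, n8⟩ := H264.O8S.u_not_le_w hF h w f.symm
  obtain ⟨yx, hyx0, hyx⟩ : ∃ y : Omega F (quadFormPlus 4 F), True ∧ gl8 F y = x := by
    obtain ⟨y, hy, hyx⟩ := w.x_mem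
    exact ⟨⟨y, hy⟩, trivial, hyx⟩
  obtain ⟨yt, hyt0, hyt⟩ : ∃ y : Omega F (quadFormPlus 4 F), True ∧ gl8 F y = t := by
    obtain ⟨y, hy, hyt⟩ := w.t_mem
    exact ⟨⟨y, hy⟩, trivial, hyt⟩
  have hinj : Function.Injective (gl8 F) := (isometryGroup F (quadFormPlus 4 F)).subtype_injective.comp
    (Omega F (quadFormPlus 4 F)).subtype_injective
  -- `x` and `t` are powers of `s = x t`
  have hcomm : Commute yx yt := by
    apply hinj
    change gl8 F (yx * yt) = gl8 F (yt * yx)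
    rw [map_mul, map_mul, hyx, hyt, w.comm]
  have hcop : Nat.Coprime (orderOf yx) (orderOf yt) := by
    have e1 : orderOf yx = r ^ k := by rw [← w.x_ord, ← hyx, orderOf_injective _ hinj]
    have e2 : orderOf yt = mt (p ^ a) := by rw [← hF, ← w.t_ord, ← hyt, orderOf_injective _ hinj]
    rw [e1, e2]
    apply Nat.Coprime.pow_left
    rw [h.pp.prime.coprime_iff_not_dvd]
    intro h1
    have h2 := h1.trans (mt_dvd (p ^ a) (by have := h.four; omega))
    have h3 : r ∣ (p ^ a) ^ 2 - 1 := by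
      have h4 : (p ^ a) ^ 2 - 1 = (p ^ a + 1) * (p ^ a - 1) := by
        have := Nat.sq_sub_sq (p ^ a) 1
        rwa [one_pow] at this
      rw [h4]
      exact h2.mul_right _
    rw [h.pp.dvd_iff (by have := h.four; omega)] at h3
    exact absurd h3 (by norm_num)
  have hpw : ∀ {u v : Omega F (quadFormPlus 4 F)}, Commute u v → Nat.Coprime (orderOf u) (orderOf v) →
      u ∈ Subgroup.zpowers (u * v) := by
    intro u v hc hcop
    have h1 : (u * v) ^ orderOf v = u ^ orderOf v := by rw [hc.mul_pow, pow_orderOf_eq_one, mul_one]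
    have h2 : u ∈ Subgroup.zpowers (u ^ orderOf v) := mem_zpowers_pow_iff.2 hcop.symm
    rw [← h1] at h2
    exact (Subgroup.zpowers_le.2 (Subgroup.pow_mem _ (Subgroup.mem_zpowers _) _)) h2
  have hsx : yx ∈ Subgroup.zpowers (yx * yt) := hpw hcomm hcop
  have hst : yt ∈ Subgroup.zpowers (yx * yt) := by
    rw [hcomm.eq]
    exact hpw hcomm.symm hcop.symm
  have hxK : ∀ {K : Subgroup (T8 F)}, mk8 F (yx * yt) ∈ K → mk8 F yx ∈ K ∧ mk8 F yt ∈ K := by
    intro K hK
    constructor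
    · obtain ⟨i, hi⟩ := Subgroup.mem_zpowers_iff.1 hsx
      rw [← hi, map_zpow]
      exact K.zpow_mem hK i
    · obtain ⟨i, hi⟩ := Subgroup.mem_zpowers_iff.1 hst
      rw [← hi, map_zpow]
      exact K.zpow_mem hK i
  have hov : ∀ K : Subgroup (T8 F), mk8 F (yx * yt) ∈ K → K ≠ ⊤ → K ≤ U₁ x ∨ K ≤ U₂ J c ∨ K ≤ U₂ J' c := by
    intro K hK hne
    obtain ⟨h1, h2⟩ := hxK hK
    refine ho ?_ ?_ hne
    · rw [← hyx]; exact pre_of_mem h1
    · rw [← hyt]; exact pre_of_mem h2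
  -- `s` lies in the three subgroups
  have m1 : mk8 F (yx * yt) ∈ U₁ x := by
    refine mk_mem_tp ?_
    change gl8 F (yx * yt) ∈ _
    rw [map_mul, hyx, hyt]
    refine Subgroup.mul_mem _ ?_ ?_
    · rw [mem_SW]
      apply le_antisymm
      · rintro _ ⟨v, hv, rfl⟩
        rw [H951.mem_fx.1 hv]; exact hv
      · intro v hv
        exact ⟨v, hv, H951.mem_fx.1 hv⟩
    · rw [mem_SW]
      exact Submodule.eq_of_le_of_finrank_eq (by
        rintro _ ⟨v, hv, rfl⟩
        exact b.irr2.2.1 v hv) (H955.finrank_map_of_injective _ (lin_inj _))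
  have m2 : ∀ {J J' : Module.End F (I8 → F)}, Two x t J J' c d → mk8 F (yx * yt) ∈ U₂ J c := by
    intro J J' f
    refine mk_mem_tp ?_
    change gl8 F (yx * yt) ∈ _
    rw [map_mul, hyx, hyt]
    refine Subgroup.mul_mem _ ?_ ?_
    · exact Or.inl fun v => (LinearMap.congr_fun f.cx v).symm
    · exact Or.inl fun v => (LinearMap.congr_fun f.ct v).symm
  have hco1 : IsCoatom (U₁ x) := by
    refine ⟨n3, fun K hK => ?_⟩
    by_contra hne
    rcases hov K (hK.le m1) hne with h1 | h1 | h1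
    · exact absurd h1 hK.not_ge
    · exact n1 (hK.le.trans h1)
    · exact n5 (hK.le.trans h1)
  have hco2 : ∀ {J J' : Module.End F (I8 → F)}, Two x t J J' c d → ¬ U₂ J c ≤ U₁ x → U₂ J c ≠ ⊤ →
      U₂ J c ⊓ U₂ J' c ≤ U₁ x → (∀ K : Subgroup (T8 F), mk8 F (yx * yt) ∈ K → K ≠ ⊤ → K ≤ U₁ x ∨ K ≤ U₂ J c ∨
        K ≤ U₂ J' c) → IsCoatom (U₂ J c) := by
    intro J J' f n2 n4 i3 hov
    refine ⟨n4, fun K hK => ?_⟩
    by_contra hne
    rcases hov K (hK.le (m2 f)) hne with h1 | h1 | h1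
    · exact n2 (hK.le.trans h1)
    · exact absurd h1 hK.not_ge
    · exact n2 ((le_inf le_rfl (hK.le.trans h1)).trans i3)
  refine H938.Spr.spr_of_three hna (s := mk8 F (yx * yt)) hco1 (hco2 f n2 n4 i3 hov)
    (hco2 f.symm n6 n8 (by rw [inf_comm]; exact i3) fun K h1 h2 => (hov K h1 h2).imp_right Or.symm) hov i1 i2 i3 ?_ ?_ ?_ hH
  · intro y hy
    obtain ⟨h1, h2⟩ := hxK (m2 f)
    exact n2 (conj_U₁ hyx hyt b h1 h2 hy)
  · intro y hy
    obtain ⟨h1, h2⟩ := hxK (m2 f.symm)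
    exact n6 (conj_U₁ hyx hyt b h1 h2 hy)
  · intro y hy
    obtain ⟨h1, h2⟩ := hxK (m2 f.symm)
    rcases conj_U₂ hyx hyt b f h1 h2 hy with h3 | ⟨g, hg, h3⟩
    · exact n6 ((le_inf h3 le_rfl).trans i3)
    · exact H332.O8S.not_conj' w f hg h3

end Cfsg.Agent.H823.O8S
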