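import Cfsg.Agent.H823.O8S.Base
import Cfsg.Agent.H912.Core4
import Cfsg.Agent.H925.OrthRed

/-!
# S3938-OPLUS8: overgroups of `x`, `t` which are reducible or normalise a field of order `q²` (helper823)
-/

set_option autoImplicit false
set_option linter.unusedSectionVars false

namespace Cfsg.Agent.H823.O8S

open Module QuadraticMap Cfsg Cfsg.Geo Cfsg.Agent.LieClassical.OrthCore Cfsg.Agent.H955 Cfsg.Agent.H954.TSing
open Cfsg.Agent.LieClassical.OmegaReindex
open Cfsg.Agent.H951 (fx cm Inv Irr)
open Cfsg.Agent.H884.El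
open Cfsg.Agent.H708.O8 (I8 T8)
open Cfsg.Agent.H436 (Prim)
open scoped MatrixGroups Matrix

/-- two roots of the same quadratic polynomial which commute with an irreducible operator -/
theorem two_roots {F V : Type*} [Field F] [AddCommGroup V] [Module F V] [FiniteDimensional F V] {x A B : Module.End F V}
    {W : Submodule F V} (hI : Irr x W) (hA : A * x = x * A) (hB : B * x = x * B) (hAW : ∀ w ∈ W, A w ∈ W)
    (hBW : ∀ w ∈ W, B w ∈ W) {c d : F} (hA2 : ∀ w ∈ W, A (A w) = c • A w - d • w)
    (hB2 : ∀ w ∈ W, B (B w) = c • B w - d • w) :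
    (∀ w ∈ W, A w = B w) ∨ (∀ w ∈ W, A w = c • w - B w) := by
  have hxA : ∀ v, A (x v) = x (A v) := fun v => LinearMap.congr_fun hA v
  have hxB : ∀ v, B (x v) = x (B v) := fun v => LinearMap.congr_fun hB v
  obtain ⟨P, hP⟩ := H118.BS.exists_poly hI hA hAW
  have hBx : Commute B x := hB
  have hBP : ∀ v, B (Polynomial.aeval x P v) = Polynomial.aeval x P (B v) := by
    intro v
    have h1 : ∀ P : Polynomial F, Commute B (Polynomial.aeval x P) := by
      intro P
      induction P using Polynomial.induction_on' with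
      | add p q hp hq => rw [map_add]; exact hp.add_right hq
      | monomial n c =>
        rw [Polynomial.aeval_monomial]
        exact (Algebra.commute_algebraMap_right c _).mul_right (hBx.pow_right n)
    exact LinearMap.congr_fun (h1 P) v
  have hAB : ∀ w ∈ W, A (B w) = B (A w) := by
    intro w hw
    rw [hP w hw, hBP, ← hP _ (hBW w hw)]
  have hker : ∀ v, v ∈ LinearMap.ker (A + B - c • (1 : Module.End F V)) ↔ A v + B v - c • v = 0 := by
    intro v
    rw [LinearMap.mem_ker, LinearMap.sub_apply, LinearMap.add_apply, LinearMap.smul_apply, Module.End.one_apply]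
  have hinv : Inv x (W ⊓ LinearMap.ker (A + B - c • (1 : Module.End F V))) := by
    intro w hw
    obtain ⟨hw, hw2⟩ := Submodule.mem_inf.1 hw
    rw [hker] at hw2
    refine Submodule.mem_inf.2 ⟨hI.2.1 w hw, ?_⟩
    rw [hker, hxA, hxB, ← map_add, ← map_smul, ← map_sub, hw2, map_zero]
  rcases hI.2.2 _ inf_le_left hinv with h | h
  · left
    intro w hw
    have h1 : A w - B w ∈ W ⊓ LinearMap.ker (A + B - c • (1 : Module.End F V)) := by
      refine Submodule.mem_inf.2 ⟨W.sub_mem (hAW w hw) (hBW w hw), ?_⟩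
      rw [hker, map_sub, map_sub, hA2 w hw, hB2 w hw, hAB w hw, smul_sub]
      abel
    rw [h, Submodule.mem_bot] at h1
    exact sub_eq_zero.1 h1
  · right
    intro w hw
    have h1 : w ∈ W ⊓ LinearMap.ker (A + B - c • (1 : Module.End F V)) := by rw [h]; exact hw
    have h2 := (hker w).1 (Submodule.mem_inf.1 h1).2
    rw [eq_sub_iff_add_eq]
    exact sub_eq_zero.1 h2

/-- a field of order `q²` contains a root of every irreducible quadratic polynomial -/
theorem exists_root {F : Type} [Field F] [Fintype F] {K : Subalgebra F (Matrix I8 I8 F)} (hK : IsFieldSubalgebra 2 K)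
    {c d : F} (hirr : ∀ z : F, z * z - c * z + d ≠ 0) : ∃ j ∈ K, j * j = c • j - d • (1 : Matrix I8 I8 F) := by
  let _ : Field K := (H912.isField_of_fieldSub hK).toField
  have hKfin : Finite K := Module.finite_of_finite F
  let P : Polynomial F := Polynomial.X ^ 2 - Polynomial.C c * Polynomial.X + Polynomial.C d
  have hdeg : P.natDegree = 2 := by
    simp only [P]
    compute_degree!
  have hmon : P.Monic := by
    simp only [P]
    monicity!
  have hP : Irreducible P := by
    rw [Polynomial.Monic.irreducible_iff_roots_eq_zero_of_degree_le_three hmon (by omega) (by omega)]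
    rw [Multiset.eq_zero_iff_forall_notMem]
    intro z hz
    have h1 := (Polynomial.mem_roots'.1 hz).2
    apply hirr z
    rw [Polynomial.IsRoot.def] at h1
    simp only [P, Polynomial.eval_add, Polynomial.eval_sub, Polynomial.eval_pow, Polynomial.eval_X, Polynomial.eval_mul,
      Polynomial.eval_C] at h1
    rw [← h1]
    ring
  have := Fact.mk hP
  have hfin : Module.finrank F (AdjoinRoot P) = 2 := by
    rw [(AdjoinRoot.powerBasis hP.ne_zero).finrank, AdjoinRoot.powerBasis_dim, hdeg]
  obtain ⟨φ⟩ := FiniteField.nonempty_algHom_of_finrank_dvd (F := F) (K := AdjoinRoot P) (L := K) (by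
    rw [hfin, hK.finrank_eq])
  let j : K := φ (AdjoinRoot.root P)
  have hj : j * j = c • j - d • (1 : K) := by
    have h1 : Polynomial.aeval j P = 0 := by
      simp only [j]
      rw [Polynomial.aeval_algHom_apply]
      have h2 : Polynomial.aeval (AdjoinRoot.root P) P = 0 := by
        rw [AdjoinRoot.aeval_eq, AdjoinRoot.mk_self]
      rw [h2, map_zero]
    simp only [P, map_add, map_sub, map_pow, map_mul, Polynomial.aeval_X, Polynomial.aeval_C] at h1
    rw [Algebra.smul_def, Algebra.smul_def, mul_one]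
    linear_combination h1
  exact ⟨j, j.2, congrArg Subtype.val hj⟩

section

variable {F : Type} [Field F] [Fintype F] {p a r k : ℕ} {x t z : GL I8 F} {J J' : Module.End F (I8 → F)} {c d : F}

theorem matl (A B : Matrix I8 I8 F) (v : I8 → F) : Matrix.toLin' (A * B) v = Matrix.toLin' A (Matrix.toLin' B v) := by
  rw [Matrix.toLin'_mul, LinearMap.comp_apply]

/-- commuting operators preserve `fx` and `cm` -/
theorem pres_fx {A B : Module.End F (I8 → F)} (h : ∀ v, A (B v) = B (A v)) {v : I8 → F} (hv : v ∈ fx B) : A v ∈ fx B := by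
  rw [H951.mem_fx] at hv ⊢
  rw [← h, hv]

theorem pres_cm {A B : Module.End F (I8 → F)} (h : ∀ v, A (B v) = B (A v)) {v : I8 → F} (hv : v ∈ cm B) : A v ∈ cm B := by
  obtain ⟨w, rfl⟩ := H951.mem_cm.1 hv
  rw [map_sub, h]
  exact H951.mem_cm.2 ⟨_, rfl⟩

theorem Fld.app (f : Fld J c d) (v : I8 → F) : J (J v) = c • J v - d • v := LinearMap.congr_fun f.sq v

theorem comm_zpow (b : Base x t z r) {A : Module.End F (I8 → F)} (h : A * lin x = lin x * A) :
    A * lin z = lin z * A := by
  obtain ⟨n, hn⟩ := b.z_eq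
  rw [hn, lin_pow]
  exact (show Commute A (lin x) from h).pow_right n

/-- **`H` normalises a field of order `q²`: it is `F[J]` or `F[J']`.** -/
theorem ext_case (b : Base x t z r) (f : Two x t J J' c d) {K : Subalgebra F (Matrix I8 I8 F)}
    (hK : IsFieldSubalgebra 2 K) {H : Subgroup (GL I8 F)} (hxH : x ∈ H) (htH : t ∈ H)
    (hHK : H ≤ subalgebraNormalizer K) : H ≤ NJ J c ∨ H ≤ NJ J' c := by
  have hzH : z ∈ H := by
    obtain ⟨n, rfl⟩ := b.z_eq
    exact Subgroup.pow_mem _ hxH n
  have hr2 : r ≠ 2 := by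
    have := b.pp.lt (by norm_num)
    omega
  have hcz := comm_field Nat.prime_two hK (hHK hzH) b.pp.prime hr2 b.z_pow
  -- a root in `K`
  obtain ⟨j₀, hj₀, hj₀2⟩ := exists_root hK f.fJ.irr
  -- elements of `K` act as field elements
  have hKz : ∀ m ∈ K, ∀ v, v ≠ 0 → Matrix.toLin' m v = 0 → m = 0 := by
    intro m hm v hv hmv
    by_contra hne
    obtain ⟨n, hn, hmn⟩ := hK.inv m hm hne
    rw [hK.comm m hm n hn] at hmn
    apply hv
    have h1 : v = Matrix.toLin' (n * m) v := by rw [hmn, Matrix.toLin'_one]; rfl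
    rw [h1, matl, hmv, map_zero]
  have key : ∀ j ∈ K, j * j = c • j - d • (1 : Matrix I8 I8 F) → (∀ v ∈ cm (lin x), Matrix.toLin' j v = J v) →
      (∀ v, Matrix.toLin' j v = J v) ∨ (∀ v, Matrix.toLin' j v = J' v) := by
    intro j hj hj2 h6
    have hjj : ∀ v, Matrix.toLin' j (Matrix.toLin' j v) = c • Matrix.toLin' j v - d • v := by
      intro v
      rw [← matl, hj2, map_sub, map_smul, map_smul, Matrix.toLin'_one]
      rfl
    -- `t` commutes with `j`
    have htj : ∀ v, Matrix.toLin' j (lin t v) = lin t (Matrix.toLin' j v) := by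
      have h1 : (t : Matrix I8 I8 F) * j * ((t⁻¹ : GL I8 F) : Matrix I8 I8 F) ∈ K := ((hHK htH) j).1 hj
      have h2 := K.sub_mem h1 hj
      obtain ⟨v, hv, hv0⟩ := (Submodule.ne_bot_iff _).1 b.irr6.1
      have h3 : (t : Matrix I8 I8 F) * j * ((t⁻¹ : GL I8 F) : Matrix I8 I8 F) - j = 0 := by
        refine hKz _ h2 v hv0 ?_
        have h4 : lin t⁻¹ v = v := by
          have h5 : lin t v = v := by
            rw [← H951.mem_fx, b.tV]
            exact hv
          conv_lhs => rw [← h5]
          exact lin_inv_apply t v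
        have h6' : lin t (J v) = J v := by
          rw [← H951.mem_fx, b.tV]
          exact pres_cm (fun v => LinearMap.congr_fun f.cx v) hv
        rw [map_sub, LinearMap.sub_apply, matl, matl]
        change lin t (Matrix.toLin' j (lin t⁻¹ v)) - _ = 0
        rw [h4, h6 v hv, h6', sub_self]
      intro v
      have h7 : (t : Matrix I8 I8 F) * j = j * (t : Matrix I8 I8 F) := by
        have h8 := sub_eq_zero.1 h3
        calc (t : Matrix I8 I8 F) * j = (t : Matrix I8 I8 F) * j * (((t⁻¹ : GL I8 F) : Matrix I8 I8 F) *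
            (t : Matrix I8 I8 F)) := by rw [← Units.val_mul, inv_mul_cancel, Units.val_one, Matrix.mul_one]
          _ = _ := by rw [← Matrix.mul_assoc, h8]
      rw [lin, ← matl, ← matl, h7]
    -- on `W`
    have hW : ∀ {A : Module.End F (I8 → F)}, (∀ v, A (lin t v) = lin t (A v)) → ∀ w ∈ fx (lin x), A w ∈ fx (lin x) := by
      intro A hA w hw
      rw [← b.tW] at hw ⊢
      exact pres_cm hA hw
    have hct : ∀ v, J (lin t v) = lin t (J v) := fun v => LinearMap.congr_fun f.ct v
    rcases two_roots b.irr2 (A := Matrix.toLin' j) (B := J) (LinearMap.ext htj) f.ct (hW htj) (hW hct)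
      (c := c) (d := d) (fun w _ => hjj w) (fun w _ => f.fJ.app w) with h2 | h2
    · left
      intro v
      have h3 : v ∈ fx (lin x) ⊔ cm (lin x) := by rw [b.compl.sup_eq_top]; exact Submodule.mem_top
      obtain ⟨u, hu, u', hu', rfl⟩ := Submodule.mem_sup.1 h3
      rw [map_add, map_add, h2 u hu, h6 u' hu']
    · right
      intro v
      have h3 : v ∈ fx (lin x) ⊔ cm (lin x) := by rw [b.compl.sup_eq_top]; exact Submodule.mem_top
      obtain ⟨u, hu, u', hu', rfl⟩ := Submodule.mem_sup.1 h3
      rw [map_add, map_add, h2 u hu, h6 u' hu', f.conj u hu, f.agree u' hu']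
  -- a root which agrees with `J` on `V₆`
  have hex : ∃ j ∈ K, j * j = c • j - d • (1 : Matrix I8 I8 F) ∧ ∀ v ∈ cm (lin x), Matrix.toLin' j v = J v := by
    have hjj : ∀ v, Matrix.toLin' j₀ (Matrix.toLin' j₀ v) = c • Matrix.toLin' j₀ v - d • v := by
      intro v
      rw [← matl, hj₀2, map_sub, map_smul, map_smul, Matrix.toLin'_one]
      rfl
    have hjz : ∀ v, Matrix.toLin' j₀ (lin z v) = lin z (Matrix.toLin' j₀ v) := by
      intro v
      rw [lin, ← matl, ← matl, hcz j₀ hj₀]
    have hJz := comm_zpow b f.cx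
    have hV : ∀ {A : Module.End F (I8 → F)}, (∀ v, A (lin z v) = lin z (A v)) → ∀ w ∈ cm (lin x), A w ∈ cm (lin x) := by
      intro A hA w hw
      rw [← b.cmz] at hw ⊢
      exact pres_cm hA hw
    rcases two_roots b.irr6 (A := Matrix.toLin' j₀) (B := J) (LinearMap.ext hjz) hJz (hV hjz)
      (hV fun v => LinearMap.congr_fun hJz v) (c := c) (d := d) (fun w _ => hjj w) (fun w _ => f.fJ.app w) with h2 | h2
    · exact ⟨j₀, hj₀, hj₀2, h2⟩
    · refine ⟨c • (1 : Matrix I8 I8 F) - j₀, K.sub_mem (K.smul_mem K.one_mem c) hj₀, ?_, ?_⟩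
      · rw [sub_mul, mul_sub, mul_sub, hj₀2]
        simp only [Matrix.smul_mul, Matrix.mul_smul, Matrix.one_mul, Matrix.mul_one, smul_sub]
        abel
      · intro v hv
        rw [map_sub, map_smul, Matrix.toLin'_one, LinearMap.sub_apply, h2 v hv]
        change c • v - _ = _
        abel
  obtain ⟨j, hj, hj2, h6⟩ := hex
  -- the normaliser
  have hN : ∀ {J₁ : Module.End F (I8 → F)}, (∀ v, Matrix.toLin' j v = J₁ v) → H ≤ NJ J₁ c := by
    intro J₁ h1 g hg
    have h2 : (g : Matrix I8 I8 F) * j * ((g⁻¹ : GL I8 F) : Matrix I8 I8 F) ∈ K := ((hHK hg) j).1 hj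
    have hgi : ((g⁻¹ : GL I8 F) : Matrix I8 I8 F) * (g : Matrix I8 I8 F) = 1 := by
      rw [← Units.val_mul, inv_mul_cancel, Units.val_one]
    have hgi' : (g : Matrix I8 I8 F) * ((g⁻¹ : GL I8 F) : Matrix I8 I8 F) = 1 := by
      rw [← Units.val_mul, mul_inv_cancel, Units.val_one]
    obtain ⟨m, hm⟩ : ∃ m, m = (g : Matrix I8 I8 F) * j * ((g⁻¹ : GL I8 F) : Matrix I8 I8 F) := ⟨_, rfl⟩
    rw [← hm] at h2
    have hmg : m * (g : Matrix I8 I8 F) = (g : Matrix I8 I8 F) * j := by
      rw [hm, Matrix.mul_assoc, hgi, Matrix.mul_one]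
    have hm2 : m * m = c • m - d • (1 : Matrix I8 I8 F) := by
      have h3 : m * m = (g : Matrix I8 I8 F) * (j * j) * ((g⁻¹ : GL I8 F) : Matrix I8 I8 F) := by
        rw [hm]
        calc (g : Matrix I8 I8 F) * j * ((g⁻¹ : GL I8 F) : Matrix I8 I8 F) * ((g : Matrix I8 I8 F) * j *
              ((g⁻¹ : GL I8 F) : Matrix I8 I8 F)) = (g : Matrix I8 I8 F) * j * (((g⁻¹ : GL I8 F) : Matrix I8 I8 F) *
              (g : Matrix I8 I8 F)) * j * ((g⁻¹ : GL I8 F) : Matrix I8 I8 F) := by simp only [Matrix.mul_assoc]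
          _ = _ := by rw [hgi, Matrix.mul_one]; simp only [Matrix.mul_assoc]
      rw [h3, hj2, Matrix.mul_sub, Matrix.sub_mul, Matrix.mul_smul, Matrix.smul_mul, ← hm, Matrix.mul_smul,
        Matrix.mul_one, Matrix.smul_mul, hgi']
    have h4 : (m - j) * (m + j - c • (1 : Matrix I8 I8 F)) = 0 := by
      have h5 := hK.comm m h2 j hj
      calc (m - j) * (m + j - c • (1 : Matrix I8 I8 F)) = (m * m - c • m) - (j * j - c • j) + (m * j - j * m) := by
            simp only [Matrix.sub_mul, Matrix.mul_sub, Matrix.mul_add, Matrix.mul_smul, Matrix.mul_one, smul_sub]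
            abel
        _ = 0 := by rw [hm2, hj2, h5]; abel
    have hgv : ∀ v, lin g (J₁ v) = Matrix.toLin' m (lin g v) := by
      intro v
      rw [← h1, lin, ← matl, ← matl, hmg]
    by_cases h5 : m - j = 0
    · left
      intro v
      rw [hgv, sub_eq_zero.1 h5, h1]
    · right
      intro v
      obtain ⟨n, hn, hmn⟩ := hK.inv _ (K.sub_mem h2 hj) h5
      rw [hK.comm _ (K.sub_mem h2 hj) n hn] at hmn
      have h6 : m + j - c • (1 : Matrix I8 I8 F) = 0 := by
        have h7 := congrArg (fun y => n * y) h4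
        beta_reduce at h7
        rwa [← Matrix.mul_assoc, hmn, Matrix.one_mul, Matrix.mul_zero] at h7
      have h8 : m = c • (1 : Matrix I8 I8 F) - j := by
        rw [eq_sub_iff_add_eq]
        exact sub_eq_zero.1 h6
      rw [hgv, h8, map_sub, map_smul, Matrix.toLin'_one, LinearMap.sub_apply, h1]
      rfl
  rcases key j hj hj2 h6 with h1 | h1
  · exact Or.inl (hN h1)
  · exact Or.inr (hN h1)

end

end Cfsg.Agent.H823.O8S
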