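import Cfsg.Agent.H823.O8S.Geo

/-!
# S3938-OPLUS8: conjugates of `t` in the residual overgroups (helper823)
-/

set_option autoImplicit false
set_option linter.unusedSectionVars false

namespace Cfsg.Agent.H823.O8S

open Module QuadraticMap Cfsg Cfsg.Geo Cfsg.Agent.LieClassical.OrthCore Cfsg.Agent.H955 Cfsg.Agent.H954.TSing
open Cfsg.Agent.LieClassical.OmegaReindex
open Cfsg.Agent.H951 (fx cm Inv Irr)
open Cfsg.Agent.H884.El
open Cfsg.Agent.H708.O8 (I8 T8)
open Cfsg.Agent.H436 (Prim)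
open scoped MatrixGroups Matrix

variable {F : Type} [Field F] [Fintype F] {p a r k : ℕ} {x t z : GL I8 F} {J J' : Module.End F (I8 → F)} {c d : F}

theorem fx_conj (g y : GL I8 F) : fx (lin (g * y * g⁻¹)) = (fx (lin y)).map (lin g) := by
  ext v
  constructor
  · intro hv
    rw [H951.mem_fx] at hv
    refine ⟨lin g⁻¹ v, ?_, lin_apply_inv g v⟩
    change lin g⁻¹ v ∈ fx (lin y)
    rw [H951.mem_fx]
    rw [lin_mul_apply, lin_mul_apply] at hv
    have h1 := congrArg (lin g⁻¹) hv
    rwa [lin_inv_apply] at h1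
  · rintro ⟨u, hu, rfl⟩
    have hu' : lin y u = u := H951.mem_fx.1 hu
    rw [H951.mem_fx, lin_mul_apply, lin_mul_apply, lin_inv_apply, hu']

theorem lin_inj (g : GL I8 F) : Function.Injective (lin g) := by
  intro u v h
  have := congrArg (lin g⁻¹) h
  rwa [lin_inv_apply, lin_inv_apply] at this

theorem finrank_fx_conj (g y : GL I8 F) : finrank F (fx (lin (g * y * g⁻¹))) = finrank F (fx (lin y)) := by
  rw [fx_conj]
  exact H955.finrank_map_of_injective _ (lin_inj g)

theorem cm_conj (g y : GL I8 F) : cm (lin (g * y * g⁻¹)) = (cm (lin y)).map (lin g) := by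
  ext v
  constructor
  · intro hv
    obtain ⟨w, rfl⟩ := H951.mem_cm.1 hv
    refine ⟨lin y (lin g⁻¹ w) - lin g⁻¹ w, H951.mem_cm.2 ⟨_, rfl⟩, ?_⟩
    rw [map_sub, lin_apply_inv, lin_mul_apply, lin_mul_apply]
  · rintro ⟨u, hu, rfl⟩
    obtain ⟨w, rfl⟩ := H951.mem_cm.1 hu
    refine H951.mem_cm.2 ⟨lin g w, ?_⟩
    rw [map_sub, lin_mul_apply, lin_mul_apply, lin_inv_apply]

/-- an element commuting with `t` up to a scalar commutes with `t` -/
theorem comm_of_scalar (b : Base x t z r) {s : GL I8 F} {e : F} (h : ∀ v, lin t (lin s v) = e • lin s (lin t v))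
    (v : I8 → F) : lin t (lin s v) = lin s (lin t v) := by
  by_cases he : e = 1
  · rw [h, he, one_smul]
  exfalso
  have h1 : (fx (lin t)).map (lin s) ⊓ fx (lin t) = ⊥ := by
    rw [eq_bot_iff]
    rintro _ ⟨⟨u, hu, rfl⟩, hv⟩
    have hu' : lin t u = u := H951.mem_fx.1 hu
    have hv' : lin t (lin s u) = lin s u := H951.mem_fx.1 hv
    rw [h, hu'] at hv'
    have h2 : (e - 1) • lin s u = 0 := by rw [sub_smul, one_smul, hv', sub_self]
    rw [Submodule.mem_bot]
    exact (smul_eq_zero.1 h2).resolve_left (sub_ne_zero.2 he)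
  have h2 := H951.finrank_sup_of_disj h1
  have h3 : finrank F ((fx (lin t)).map (lin s)) = 6 := by
    rw [H955.finrank_map_of_injective _ (lin_inj s), b.tV, b.dim6]
  have h4 : finrank F (fx (lin t)) = 6 := by rw [b.tV, b.dim6]
  rw [h3, h4] at h2
  have h5 := Submodule.finrank_le ((fx (lin t)).map (lin s) ⊔ fx (lin t))
  rw [finrank_I8] at h5
  omega

/-- no scalar on `W` -/
theorem Base.no_eig (b : Base x t z r) (e : F) : ¬ ∀ w ∈ fx (lin x), lin t w = e • w := by
  intro h
  obtain ⟨v, hv, hv0⟩ := (Submodule.ne_bot_iff _).1 b.irr2.1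
  have hle : Submodule.span F {v} ≤ fx (lin x) := by
    rw [Submodule.span_singleton_le_iff_mem]
    exact hv
  rcases b.irr2.2.2 (Submodule.span F {v}) hle (by
    intro w hw
    rw [h w (hle hw)]
    exact Submodule.smul_mem _ _ hw) with h1 | h1
  · exact hv0 (Submodule.span_singleton_eq_bot.1 h1)
  · have h2 := finrank_span_singleton (K := F) hv0
    rw [h1, b.dim2] at h2
    omega

/-- `t + t⁻¹` is a scalar on `W` -/
theorem exists_tau (hF : Nat.card F = p ^ a) (h : RW p a r k) (w : Wit x t (r ^ k)) (b : Base x t z r) :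
    ∃ τ : F, ∀ v ∈ fx (lin x), lin t (lin t v) = τ • lin t v - (1 : F) • v := by
  have hiso := iso_of_omega w.t_mem
  have hW : ∀ v ∈ fx (lin x), lin t v ∈ fx (lin x) := b.irr2.2.1
  -- `t² ≠ 1` on `W`
  obtain ⟨v, hv, hv2⟩ : ∃ v ∈ fx (lin x), lin t (lin t v) ≠ v := by
    by_contra hcon
    push Not at hcon
    have h1 : t ^ 2 = 1 := by
      apply lin_injective
      rw [lin_one, lin_pow]
      refine LinearMap.ext fun v => ?_
      rw [pow_two, Module.End.mul_apply, Module.End.one_apply]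
      have h6 : v ∈ fx (lin x) ⊔ cm (lin x) := by rw [b.compl.sup_eq_top]; exact Submodule.mem_top
      obtain ⟨u, hu, u', hu', rfl⟩ := Submodule.mem_sup.1 h6
      have h7 : lin t u' = u' := by
        rw [← H951.mem_fx, b.tV]
        exact hu'
      rw [map_add, map_add, h7, h7, hcon u hu]
    have h2 := orderOf_dvd_of_pow_eq_one h1
    rw [w.t_ord] at h2
    have h3 := Nat.le_of_dvd (by norm_num) h2
    have h4 := h.mt_three
    rw [← hF] at h4
    omega
  -- `v'' = t² v - v` is orthogonal to `t v` and to `t² v + v`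
  obtain ⟨n, hn⟩ : ∃ n, n = lin t (lin t v) - v := ⟨_, rfl⟩
  have hn0 : n ≠ 0 := by rw [hn]; exact sub_ne_zero.2 hv2
  have hnW : n ∈ fx (lin x) := by rw [hn]; exact Submodule.sub_mem _ (hW _ (hW v hv)) hv
  have ps : ∀ u u' u'', polar (quadFormPlus 4 F) u (u' - u'') = polar (quadFormPlus 4 F) u u' -
      polar (quadFormPlus 4 F) u u'' := by
    intro u u' u''
    rw [← coe_quadPlus]
    exact polar_sub_right (quadPlus 4 F) _ _ _
  have hself : ∀ u, polar (quadFormPlus 4 F) (lin t u) (lin t u) = polar (quadFormPlus 4 F) u u := fun u =>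
    polar_iso' hiso u u
  have h1 : polar (quadFormPlus 4 F) (lin t v) n = 0 := by
    rw [hn, ps, polar_iso' hiso v (lin t v), polar_comm8 v (lin t v), sub_self]
  have h2 : polar (quadFormPlus 4 F) (lin t (lin t v) + v) n = 0 := by
    rw [hn, ps, polar_add_left8, polar_add_left8, hself, hself, polar_comm8 v (lin t (lin t v))]
    ring
  -- the line orthogonal to `n` in `W`
  have hline : ∃ τ : F, lin t (lin t v) + v = τ • lin t v := by
    have htv0 : lin t v ≠ 0 := by
      intro h0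
      apply hv2
      have h5 : v = 0 := by
        have := congrArg (lin t⁻¹) h0
        rwa [lin_inv_apply, map_zero] at this
      rw [h5, map_zero, map_zero]
    by_contra hcon
    push Not at hcon
    -- then `n` is orthogonal to `W`
    have hli : LinearIndependent F ![lin t v, lin t (lin t v) + v] := by
      rw [LinearIndependent.pair_iff' htv0]
      intro τ h5
      exact hcon τ h5.symm
    have hspan : Submodule.span F (Set.range ![lin t v, lin t (lin t v) + v]) = fx (lin x) := by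
      refine Submodule.eq_of_le_of_finrank_eq ?_ ?_
      · rw [Submodule.span_le]
        rintro _ ⟨i, rfl⟩
        fin_cases i
        · exact hW v hv
        · exact Submodule.add_mem _ (hW _ (hW v hv)) hv
      · rw [finrank_span_eq_card hli, Fintype.card_fin, b.dim2]
    apply hn0
    refine nondeg8 fun u => ?_
    have h6 : u ∈ fx (lin x) ⊔ cm (lin x) := by rw [b.compl.sup_eq_top]; exact Submodule.mem_top
    obtain ⟨u1, hu1, u2, hu2, rfl⟩ := Submodule.mem_sup.1 h6
    rw [polar_add_left8, polar_comm8 u2 n, b.perp n hnW u2 hu2, add_zero]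
    rw [← hspan] at hu1
    refine Submodule.span_induction (p := fun u _ => polar (quadFormPlus 4 F) u n = 0) ?_ ?_ ?_ ?_ hu1
    · rintro _ ⟨i, rfl⟩
      fin_cases i
      · exact h1
      · exact h2
    · rw [← coe_quadPlus]
      exact polar_zero_left (quadPlus 4 F) n
    · intro u u' _ _ hu hu'
      rw [polar_add_left8, hu, hu', add_zero]
    · intro e u _ hu
      have h7 : polar (quadFormPlus 4 F) (e • u) n = e * polar (quadFormPlus 4 F) u n := by
        rw [← coe_quadPlus]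
        exact polar_smul_left (quadPlus 4 F) e u n
      rw [h7, hu, mul_zero]
  obtain ⟨τ, hτ⟩ := hline
  refine ⟨τ, ?_⟩
  -- the kernel of `t² - τ t + 1` is invariant under `t`
  let K : Submodule F (I8 → F) := fx (lin x) ⊓ LinearMap.ker (lin t * lin t - τ • lin t + 1)
  have hK : ∀ u, u ∈ LinearMap.ker (lin t * lin t - τ • lin t + 1) ↔ lin t (lin t u) - τ • lin t u + u = 0 := by
    intro u
    rw [LinearMap.mem_ker, LinearMap.add_apply, LinearMap.sub_apply, LinearMap.smul_apply, Module.End.mul_apply,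
      Module.End.one_apply]
  rcases b.irr2.2.2 K inf_le_left (by
    intro u hu
    obtain ⟨hu1, hu2⟩ := Submodule.mem_inf.1 hu
    refine Submodule.mem_inf.2 ⟨hW u hu1, ?_⟩
    rw [hK] at hu2 ⊢
    rw [← map_smul, ← map_sub, ← map_add, hu2, map_zero]) with h3 | h3
  · exfalso
    have h4 : v ∈ K := by
      refine Submodule.mem_inf.2 ⟨hv, ?_⟩
      rw [hK, sub_add_eq_add_sub, hτ, sub_self]
    rw [h3, Submodule.mem_bot] at h4
    apply hv2
    rw [h4, map_zero, map_zero]
  · intro u hu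
    have h4 : u ∈ K := by rw [h3]; exact hu
    have h5 := (hK u).1 (Submodule.mem_inf.1 h4).2
    rw [one_smul, eq_sub_iff_add_eq, ← sub_eq_zero, ← h5]
    abel

/-- a conjugate of `t` which commutes with `t` is `t`, `t⁻¹`, or trivial on `W` -/
theorem conj_cases (hF : Nat.card F = p ^ a) (h : RW p a r k) (w : Wit x t (r ^ k)) (b : Base x t z r) {g s : GL I8 F}
    (hs : s = g * t * g⁻¹) (hc : ∀ v, lin t (lin s v) = lin s (lin t v)) :
    s = t ∨ s = t⁻¹ ∨ ∀ v ∈ fx (lin x), lin s v = v := by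
  have hsW : ∀ v ∈ fx (lin x), lin s v ∈ fx (lin x) := by
    intro v hv
    rw [← b.tW] at hv ⊢
    exact pres_cm (fun v => (hc v).symm) hv
  have hsV : ∀ v ∈ cm (lin x), lin s v ∈ cm (lin x) := by
    intro v hv
    rw [← b.tV] at hv ⊢
    exact pres_fx (fun v => (hc v).symm) hv
  rcases b.irr2.2.2 ((fx (lin x)).map (lin s - 1)) (by
    rintro _ ⟨v, hv, rfl⟩
    exact Submodule.sub_mem _ (hsW v hv) hv) (by
    rintro _ ⟨v, hv, rfl⟩
    refine ⟨lin t v, b.irr2.2.1 v hv, ?_⟩
    rw [LinearMap.sub_apply, LinearMap.sub_apply, map_sub, hc]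
    rfl) with h1 | h1
  · right; right
    intro v hv
    have h2 : (lin s - 1) v ∈ (fx (lin x)).map (lin s - 1) := ⟨v, hv, rfl⟩
    rw [h1, Submodule.mem_bot, LinearMap.sub_apply, Module.End.one_apply] at h2
    exact sub_eq_zero.1 h2
  -- `cm s = W`
  have hcm : cm (lin s) = fx (lin x) := by
    symm
    refine Submodule.eq_of_le_of_finrank_eq ?_ ?_
    · rw [← h1]
      rintro _ ⟨v, -, rfl⟩
      exact ⟨v, rfl⟩
    · rw [hs, cm_conj, H955.finrank_map_of_injective _ (lin_inj g), b.tW]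
  have hV : ∀ v ∈ cm (lin x), lin s v = v := by
    intro v hv
    have h2 : lin s v - v ∈ fx (lin x) := by
      rw [← hcm]
      exact H951.mem_cm.2 ⟨v, rfl⟩
    have h3 : lin s v - v ∈ cm (lin x) := Submodule.sub_mem _ (hsV v hv) hv
    have h4 : lin s v - v ∈ fx (lin x) ⊓ cm (lin x) := ⟨h2, h3⟩
    rw [b.compl.inf_eq_bot, Submodule.mem_bot] at h4
    exact sub_eq_zero.1 h4
  obtain ⟨τ, hτ⟩ := exists_tau hF h w b
  have hsτ : ∀ v ∈ fx (lin x), lin s (lin s v) = τ • lin s v - (1 : F) • v := by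
    intro v hv
    rw [← hcm, hs, cm_conj] at hv
    obtain ⟨u, hu, rfl⟩ := hv
    have hu' : u ∈ fx (lin x) := by rw [← b.tW]; exact hu
    have h2 : ∀ y, lin s (lin g y) = lin g (lin t y) := by
      intro y
      rw [hs, lin_mul_apply, lin_mul_apply, lin_inv_apply]
    rw [h2, h2, hτ u hu', map_sub, map_smul, map_smul]
  have hdec : ∀ {A : GL I8 F}, (∀ v ∈ fx (lin x), lin s v = lin A v) → (∀ v ∈ cm (lin x), lin A v = v) → s = A := by
    intro A h2 h3
    apply lin_injective
    refine LinearMap.ext fun v => ?_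
    have h6 : v ∈ fx (lin x) ⊔ cm (lin x) := by rw [b.compl.sup_eq_top]; exact Submodule.mem_top
    obtain ⟨u, hu, u', hu', rfl⟩ := Submodule.mem_sup.1 h6
    rw [map_add, map_add, h2 u hu, h3 u' hu', hV u' hu']
  have htV : ∀ v ∈ cm (lin x), lin t v = v := by
    intro v hv
    rw [← H951.mem_fx, b.tV]
    exact hv
  rcases two_roots b.irr2 (A := lin s) (B := lin t) (LinearMap.ext fun v => (hc v).symm) rfl hsW b.irr2.2.1
    (c := τ) (d := 1) hsτ hτ with h2 | h2
  · left
    exact hdec h2 htV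
  · right; left
    refine hdec (fun v hv => ?_) fun v hv => ?_
    · rw [h2 v hv]
      apply lin_inj t
      rw [lin_apply_inv, map_sub, map_smul, hτ v hv, one_smul]
      abel
    · apply lin_inj t
      rw [lin_apply_inv, htV v hv]

/-- **three conjugates of `t`** -/
theorem kill3 (hF : Nat.card F = p ^ a) (h : RW p a r k) (w : Wit x t (r ^ k)) (b : Base x t z r)
    {g₁ g₂ g₃ s₁ s₂ s₃ : GL I8 F} {e₁ e₂ e₃ e : F} (h₁ : s₁ = g₁ * t * g₁⁻¹) (h₂ : s₂ = g₂ * t * g₂⁻¹)
    (h₃ : s₃ = g₃ * t * g₃⁻¹) (c₁ : ∀ v, lin t (lin s₁ v) = e₁ • lin s₁ (lin t v))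
    (c₂ : ∀ v, lin t (lin s₂ v) = e₂ • lin s₂ (lin t v)) (c₃ : ∀ v, lin t (lin s₃ v) = e₃ • lin s₃ (lin t v))
    (hm : ∀ v, lin s₁ (lin s₂ (lin s₃ v)) = e • lin t v)
    (n₁ : s₁ ∉ Subgroup.zpowers t) (n₂ : s₂ ∉ Subgroup.zpowers t) (n₃ : s₃ ∉ Subgroup.zpowers t) : False := by
  have key : ∀ {g s : GL I8 F} {e : F}, s = g * t * g⁻¹ → (∀ v, lin t (lin s v) = e • lin s (lin t v)) →
      s ∉ Subgroup.zpowers t → ∀ v ∈ fx (lin x), lin s v = v := by
    intro g s e hs hc hn
    rcases conj_cases hF h w b hs (comm_of_scalar b hc) with h1 | h1 | h1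
    · exact absurd (h1 ▸ Subgroup.mem_zpowers t) hn
    · exact absurd (h1 ▸ Subgroup.inv_mem _ (Subgroup.mem_zpowers t)) hn
    · exact h1
  have k1 := key h₁ c₁ n₁
  have k2 := key h₂ c₂ n₂
  have k3 := key h₃ c₃ n₃
  have he : e ≠ 0 := by
    rintro rfl
    obtain ⟨v, hv, hv0⟩ := (Submodule.ne_bot_iff _).1 b.irr2.1
    have h1 := hm v
    rw [k3 v hv, k2 v hv, k1 v hv, zero_smul] at h1
    exact hv0 h1
  refine b.no_eig e⁻¹ fun v hv => ?_
  have h1 := hm v
  rw [k3 v hv, k2 v hv, k1 v hv] at h1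
  rw [eq_inv_smul_iff₀ he]
  exact h1.symm

/-- **two conjugates of a power of `t`** -/
theorem kill2 (b : Base x t z r) {g₁ g₂ s₁ s₂ : GL I8 F} {n : ℕ} {e : F} (h₁ : s₁ = g₁ * t ^ n * g₁⁻¹)
    (h₂ : s₂ = g₂ * t ^ n * g₂⁻¹) (hm : ∀ v, lin s₁ (lin s₂ v) = e • lin x v) : False := by
  have hfx : ∀ {g s : GL I8 F}, s = g * t ^ n * g⁻¹ → 6 ≤ finrank F (fx (lin s)) := by
    intro g s hs
    rw [hs, finrank_fx_conj]
    have h1 : fx (lin t) ≤ fx (lin (t ^ n)) := by
      intro v hv
      rw [lin_pow]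
      exact pow_one_fx hv n
    have h2 := Submodule.finrank_mono h1
    rw [b.tV, b.dim6] at h2
    exact h2
  have h3 := hfx h₁
  have h4 := hfx h₂
  have h5 := Submodule.finrank_sup_add_finrank_inf_eq (fx (lin s₁)) (fx (lin s₂))
  have h6 := Submodule.finrank_le (fx (lin s₁) ⊔ fx (lin s₂))
  rw [finrank_I8] at h6
  have h7 := Submodule.finrank_sup_add_finrank_inf_eq (fx (lin s₁) ⊓ fx (lin s₂)) (cm (lin x))
  have h8 := Submodule.finrank_le ((fx (lin s₁) ⊓ fx (lin s₂)) ⊔ cm (lin x))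
  rw [finrank_I8] at h8
  have h9 := b.dim6
  have h10 : (fx (lin s₁) ⊓ fx (lin s₂)) ⊓ cm (lin x) ≠ ⊥ := by
    intro h0
    rw [h0, finrank_bot] at h7
    omega
  obtain ⟨v, hv, hv0⟩ := (Submodule.ne_bot_iff _).1 h10
  obtain ⟨hv1, hv2⟩ := Submodule.mem_inf.1 hv
  obtain ⟨hv3, hv4⟩ := Submodule.mem_inf.1 hv1
  have h11 := hm v
  rw [H951.mem_fx.1 hv4, H951.mem_fx.1 hv3] at h11
  have he : e ≠ 0 := by
    rintro rfl
    rw [zero_smul] at h11
    exact hv0 h11
  have h12 : lin x v = e⁻¹ • v := by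
    rw [eq_inv_smul_iff₀ he]
    exact h11.symm
  obtain ⟨m, hmz⟩ := b.z_eq
  have h13 : lin z v = (e⁻¹) ^ m • v := by
    rw [hmz, lin_pow]
    have : ∀ n : ℕ, (lin x ^ n) v = (e⁻¹) ^ n • v := by
      intro n
      induction n with
      | zero => simp
      | succ n ih => rw [pow_succ', Module.End.mul_apply, ih, map_smul, h12, smul_smul, pow_succ]
    exact this m
  have hle : Submodule.span F {v} ≤ cm (lin x) := by
    rw [Submodule.span_singleton_le_iff_mem]
    exact hv2
  rcases b.irr6.2.2 (Submodule.span F {v}) hle (by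
    intro w hw
    obtain ⟨α, rfl⟩ := Submodule.mem_span_singleton.1 hw
    rw [map_smul, h13]
    exact Submodule.smul_mem _ _ (Submodule.smul_mem _ _ (Submodule.mem_span_singleton_self v))) with h14 | h14
  · exact hv0 (Submodule.span_singleton_eq_bot.1 h14)
  · have h15 := finrank_span_singleton (K := F) hv0
    rw [h14, b.dim6] at h15
    omega

end Cfsg.Agent.H823.O8S
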