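import Cfsg.Agent.H823.O8S.RowOf
import Cfsg.Agent.H911.O8S.Own
import Cfsg.Agent.H532.O8S.Cross
import Cfsg.Agent.H466.O8S.SpConj
import Cfsg.Agent.H424.Spr.O8.HhAll

/-!
# S3938-OPLUS8: `Spr (PΩ⁺₈(q))`, `q ≥ 4`, `q ≠ 5`, from (O7) (helper823)
-/

set_option autoImplicit false
set_option linter.unusedSectionVars false

namespace Cfsg.Agent.H823.O8S

open Module QuadraticMap Cfsg Cfsg.Geo Cfsg.Agent.LieClassical.OrthCore Cfsg.Agent.H955 Cfsg.Agent.H954.TSing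
open Cfsg.Agent.LieClassical.OmegaReindex Cfsg.Agent.OrdDiv Cfsg.Agent.H915.LD Cfsg.Agent.H902 Cfsg.Agent.H902.Names Cfsg.Agent.H436 Cfsg.Agent.H264.GN Cfsg.Agent.H915.GN
open Cfsg.Agent.H951 (fx cm Inv)
open Cfsg.Agent.H884.El
open Cfsg.Agent.H708.O8 (I8 T8)
open Cfsg.Agent.H424.Spr
open scoped MatrixGroups Matrix Pointwise

/-- (O7) -/
def Po7 : Prop := ∀ {p a r k : ℕ} (_ : RK p a r k) {R : Type} [Group R] [Finite R] (S : Subgroup R) [S.Normal]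
  (_ : Subgroup.centralizer (S : Set R) = ⊥)
  {x t : R} (_ : orderOf x = r ^ k) (_ : orderOf t = mt (p ^ a)) (_ : x * t = t * x) {K : Type} [Field K] [Fintype K]
  (_ : p ≠ 2) (_ : Fintype.card K = p ^ a) (_ : S ≃* POmega K (quadFormOdd 3 K)),
  ∃ t₁ t₂ t₃ : R, IsConj t t₁ ∧ IsConj t t₂ ∧ IsConj t t₃ ∧ t * t₁ = t₁ * t ∧ t * t₂ = t₂ * t ∧ t * t₃ = t₃ * t ∧
    t₁ ∉ Subgroup.zpowers t ∧ t₂ ∉ Subgroup.zpowers t ∧ t₃ ∉ Subgroup.zpowers t ∧ t₁ * t₂ * t₃ = t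

theorem spr_row_po7 (hKn : ∀ (X : Type) [Group X] [Finite X] [IsSimpleGroup X], Cfsg.IsKnownSimple' X) (po7 : Po7)
    {F : Type} [Field F] [Fintype F] (h4 : 4 ≤ Nat.card F) (h5 : Nat.card F ≠ 5) : Spr (T8 F) := by
  obtain ⟨p, hp⟩ := CharP.exists F
  obtain ⟨a, hpp, ha⟩ := FiniteField.card F p
  have hF : Nat.card F = p ^ (a : ℕ) := by rw [Nat.card_eq_fintype_card, ha]
  obtain ⟨r, k, h⟩ := H59.O8S.exists_rk hpp a.pos (hF ▸ h4) (hF ▸ h5)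
  refine spr_row_of hF h ?_ ?_ ?_ ?_ ?_
  · intro R hR S _ hS hna hC P hP e hL hr
    exact H911.O8S.own hF h.weak hR S hS hna hC hP e hL hr
  · intro R S _ hS hna hC P hP e hL x t hx ht hxt
    have hs : IsSimpleGroup (Soc P) := (H915.LD.core_of_residual hP).simple
    exact H532.O8S.cross_of_known hF h S hS hna hC hP e hL (hKn _) hx ht hxt
  · intro R _ _ S _ hC x t hx ht hxt K _ _ hK e
    exact H466.O8S.sp6_conj S hC hx ht hxt hK h e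
  · intro R _ _ S _ hC x t hx ht hxt K _ _ hp2 hK e
    exact po7 h S hC hx ht hxt hp2 hK e
  · intro x t J J' c d w f e h1 h2 h3 h6
    exact H424.O8L.hH hF h w f e h1 h2 h3 h6

end Cfsg.Agent.H823.O8S
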