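import Cfsg.Agent.H823.O8S.Main
import Cfsg.Agent.H118.O8S.Psl2
import Cfsg.Agent.H332.O8S.Psu3
import Cfsg.Agent.H466.O8S.Wit
import Cfsg.Agent.H59.O8S.Num
import Cfsg.Agent.S0296

/-!
# S3938-OPLUS8: `Spr (PΩ⁺₈(q))`, `q ≥ 4`, `q ≠ 5`, from the open pieces (O3), (O4), (O6), (O7), (O12) (helper823)
-/

set_option autoImplicit false
set_option linter.unusedSectionVars false

namespace Cfsg.Agent.H823.O8S

open Module QuadraticMap Cfsg Cfsg.Geo Cfsg.Agent.LieClassical.OrthCore Cfsg.Agent.H955 Cfsg.Agent.H954.TSing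
open Cfsg.Agent.LieClassical.OmegaReindex Cfsg.Agent.OrdDiv Cfsg.Agent.H915.LD Cfsg.Agent.H902 Cfsg.Agent.H902.Names Cfsg.Agent.H436 Cfsg.Agent.H264.GN Cfsg.Agent.H915.GN
open Cfsg.Agent.H951 (fx cm Inv)
open Cfsg.Agent.H884.El
open Cfsg.Agent.H708.O8 (I8 T8)
open Cfsg.Agent.H424.Spr
open scoped MatrixGroups Matrix Pointwise

/-- `PΩ⁺₈(q)` is not commutative -/
theorem exists_noncomm {F : Type} [Field F] [Fintype F] [IsSimpleGroup (T8 F)] {U V : Subgroup (T8 F)} (h1 : ¬ U ≤ V)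
    (h2 : U ≠ ⊤) : ∃ u v : T8 F, u * v ≠ v * u := by
  by_contra hcon
  push Not at hcon
  have hn : U.Normal := ⟨fun n hn g => by rw [hcon g n, mul_inv_cancel_right]; exact hn⟩
  rcases IsSimpleGroup.eq_bot_or_eq_top_of_normal U hn with h | h
  · exact h1 (h ▸ bot_le)
  · exact h2 h

/-- the row from the open pieces -/
theorem spr_row_of {F : Type} [Field F] [Fintype F] {p a r k : ℕ} (hF : Nat.card F = p ^ a) (h : RK p a r k)
    (own : ∀ {R : Subgroup (T8 F)} (_ : R ≠ ⊤) (S : Subgroup R) [S.Normal] (_ : IsSimpleGroup S)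
      (_ : ¬ IsMulCommutative S) (_ : Subgroup.centralizer (S : Set R) = ⊥) {P : Subgroup (GL I8 F)}
      (_ : IsResidualCore (pre (quadFormPlus 4 F) R) P) (_ : S ≃* Soc P) (_ : IsLieTypeChar p (Soc P))
      (_ : r ∣ Nat.card R),
      (∃ (K : Type) (_ : Field K) (_ : Fintype K), Fintype.card K = p ^ (3 * a) ∧
        Nonempty (S ≃* Matrix.ProjectiveSpecialLinearGroup (Fin 2) K)) ∨
      IsNamed (.psu 3 (p ^ a)) S ∨
      (∃ (K : Type) (_ : Field K) (_ : Fintype K), Fintype.card K = p ^ a ∧ Nonempty (S ≃* PSp 3 K)) ∨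
      (p ≠ 2 ∧ ∃ (K : Type) (_ : Field K) (_ : Fintype K), Fintype.card K = p ^ a ∧
        Nonempty (S ≃* POmega K (quadFormOdd 3 K))))
    (cross : ∀ {R : Subgroup (T8 F)} (S : Subgroup R) [S.Normal] (_ : IsSimpleGroup S)
      (_ : ¬ IsMulCommutative S) (_ : Subgroup.centralizer (S : Set R) = ⊥) {P : Subgroup (GL I8 F)}
      (_ : IsResidualCore (pre (quadFormPlus 4 F) R) P) (_ : S ≃* Soc P) (_ : ¬ IsLieTypeChar p (Soc P))
      {x t : R} (_ : orderOf x = r ^ k) (_ : orderOf t = mt (p ^ a)) (_ : x * t = t * x), False)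
    (sp6 : ∀ {R : Type} [Group R] [Finite R] (S : Subgroup R) [S.Normal] (_ : Subgroup.centralizer (S : Set R) = ⊥)
      {x t : R} (_ : orderOf x = r ^ k) (_ : orderOf t = mt (p ^ a)) (_ : x * t = t * x) {K : Type} [Field K] [Fintype K]
      (_ : Fintype.card K = p ^ a) (_ : S ≃* PSp 3 K),
      ∃ t₁ t₂ t₃ : R, IsConj t t₁ ∧ IsConj t t₂ ∧ IsConj t t₃ ∧ t * t₁ = t₁ * t ∧ t * t₂ = t₂ * t ∧ t * t₃ = t₃ * t ∧
        t₁ ∉ Subgroup.zpowers t ∧ t₂ ∉ Subgroup.zpowers t ∧ t₃ ∉ Subgroup.zpowers t ∧ t₁ * t₂ * t₃ = t)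
    (po7 : ∀ {R : Type} [Group R] [Finite R] (S : Subgroup R) [S.Normal] (_ : Subgroup.centralizer (S : Set R) = ⊥)
      {x t : R} (_ : orderOf x = r ^ k) (_ : orderOf t = mt (p ^ a)) (_ : x * t = t * x) {K : Type} [Field K] [Fintype K]
      (_ : p ≠ 2) (_ : Fintype.card K = p ^ a) (_ : S ≃* POmega K (quadFormOdd 3 K)),
      ∃ t₁ t₂ t₃ : R, IsConj t t₁ ∧ IsConj t t₂ ∧ IsConj t t₃ ∧ t * t₁ = t₁ * t ∧ t * t₂ = t₂ * t ∧ t * t₃ = t₃ * t ∧
        t₁ ∉ Subgroup.zpowers t ∧ t₂ ∉ Subgroup.zpowers t ∧ t₃ ∉ Subgroup.zpowers t ∧ t₁ * t₂ * t₃ = t)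
    (hH : ∀ {x t : GL I8 F} {J J' : Module.End F (I8 → F)} {c d : F} (_ : Wit x t (r ^ k)) (_ : Two x t J J' c d)
      (a : MulAut (T8 F)) (_ : ∃ y : T8 F, a • U₁ x = H424.Spr.c y • U₁ x) (_ : ∃ y : T8 F, a • U₂ J c = H424.Spr.c y • U₂ J c)
      (_ : ∃ y : T8 F, a • U₂ J' c = H424.Spr.c y • U₂ J' c) (_ : a • U₁ x ≠ U₁ x),
      ∃ y ∈ U₁ x, a • (H424.Spr.c y • U₂ J c) ≠ H424.Spr.c y • U₂ J c ∧
        a • (H424.Spr.c y • U₂ J' c) ≠ H424.Spr.c y • U₂ J' c) : Spr (T8 F) := by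
  have hs : IsSimpleGroup (T8 F) := S0296.result 4 le_rfl
  obtain ⟨x, t, J, J', c, d, w, f⟩ := H466.O8S.exists_wit hF h
  obtain ⟨n1, n2, n3, n4⟩ := H264.O8S.u_not_le hF h w f
  refine spr_of_over hF h.weak w f (exists_noncomm n1 n3) ?_ ?_
  · intro K hx ht hK
    rcases geo_row hF h w f (H884.El.pre_le (Q := quadFormPlus 4 F) (M := K)) hx ht with h1 | h1 | h1 | h1
    · exact Or.inl (le_tp h1)
    · exact Or.inr (Or.inl (le_tp h1))
    · exact Or.inr (Or.inr (le_tp h1))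
    · exfalso
      refine residual hF h w own cross ?_ sp6 po7 ?_ hx ht hK h1
      · intro R _ _ S _ hC x t hx ht hxt K _ _ hK e
        exact H118.O8S.psl2_conj S hC hx ht hxt hK h e
      · intro R _ _ S _ hC x t hx ht hxt hS
        exact H332.O8S.psu3_false S hC hx ht hxt h hS
  · intro e h1 h2 h3 h4
    exact hH w f e h1 h2 h3 h4

end Cfsg.Agent.H823.O8S
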